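import Cfsg.Agent.Lib.Known.OrthFieldCent.FormMap
import Cfsg.Agent.Lib.Classical.Quad.SimilarityForms

/-!
# Parity, spinor norm and sign under semilinear similarities
-/

set_option autoImplicit false
set_option linter.unusedSectionVars false

open Matrix

namespace CfsgLib.Known.OrthFieldCent

open CfsgLib.Classical.Quad
open QuadraticMap (polar polarBilin)

variable {F : Type*} [Field F] {ι : Type} [Fintype ι] [DecidableEq ι] {Q : QuadraticForm F (ι → F)}
  (hQ : (polarBilin Q).Nondegenerate) (hn : 5 ≤ Fintype.card ι)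

/-- Parity and spinor norm, in any characteristic. -/
noncomputable def invs : ↥(Cfsg.isometryGroup F (⇑Q)) →* Multiplicative (ZMod 2) × SqClass F :=
  invHomM hQ (Or.inr (show Fintype.card ι ≠ 4 by omega))

theorem invs_rO {v : ι → F} (hv : Q v ≠ 0) :
    invs hQ hn (rO hv) = (Multiplicative.ofAdd 1, sqc (Q v)) := by
  simp only [invs, invHomM, MonoidHom.coe_comp, Function.comp_apply, MulEquiv.coe_toMonoidHom,
    rO, MulEquiv.apply_symm_apply, invHom_refl]

include hQ hn in
theorem iso_hom_ext {M : Type*} [Monoid M] (f g : ↥(Cfsg.isometryGroup F (⇑Q)) →* M)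
    (h : ∀ (v : ι → F) (hv : Q v ≠ 0), f (rO hv) = g (rO hv)) : f = g := by
  have hR := reflGroup_pi_eq_top hQ (Or.inr (show Fintype.card ι ≠ 4 by omega))
  have key : f.comp (oEquiv Q).symm.toMonoidHom = g.comp (oEquiv Q).symm.toMonoidHom := by
    refine MonoidHom.eq_of_eqOn_dense (s := {r | ∃ (v : ι → F) (hv : Q v ≠ 0), r = refl hv}) hR ?_
    rintro _ ⟨v, hv, rfl⟩
    exact h v hv
  refine MonoidHom.ext fun x => ?_
  have := DFunLike.congr_fun key (oEquiv Q x)
  simpa using this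

theorem invs_eq_one_iff [Finite F] (x : ↥(Cfsg.isometryGroup F (⇑Q))) :
    invs hQ hn x = 1 ↔ x ∈ Cfsg.Omega F (⇑Q) := by
  rw [← ker_invHomM hQ (Or.inr (show Fintype.card ι ≠ 4 by omega)) (by omega)]
  rfl

theorem spinO_eq_invs {k : ℕ} (H : EvenForm Q k) (x : ↥(Cfsg.isometryGroup F (⇑Q))) :
    spinO H x = (invs H.nondeg (by have := H.seven_le; omega) x).2 := rfl

variable {F₀ : Type*} [Field F₀] {κ : Type} [Fintype κ] [DecidableEq κ]
  {Q₀ : QuadraticForm F₀ (κ → F₀)} (hQ₀ : (polarBilin Q₀).Nondegenerate) (d : FormMap Q₀ Q)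

include d hn in
theorem five_le_source : 5 ≤ Fintype.card κ := by rw [Fintype.card_congr d.e]; exact hn

/-- Parity is unchanged. -/
theorem parity_isoMap (x : ↥(Cfsg.isometryGroup F₀ (⇑Q₀))) :
    (invs hQ hn (d.isoMap x)).1 = (invs hQ₀ (five_le_source hn d) x).1 := by
  have h := iso_hom_ext hQ₀ (five_le_source hn d) (((MonoidHom.fst _ _).comp (invs hQ hn)).comp d.isoMap)
    ((MonoidHom.fst _ _).comp (invs hQ₀ (five_le_source hn d))) fun v hv => by
      simp only [MonoidHom.coe_comp, Function.comp_apply, d.isoMap_rO, invs_rO, MonoidHom.coe_fst]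
  exact DFunLike.congr_fun h x

include hQ₀ in
/-- The spinor norms over `F` of isometries from `F₀` are trivial when all the values are squares. -/
theorem spinor_isoMap_eq_one (hsq : ∀ a : F₀, a ≠ 0 → IsSquare ((d.μ : F) * d.j a))
    (x : ↥(Cfsg.isometryGroup F₀ (⇑Q₀))) : (invs hQ hn (d.isoMap x)).2 = 1 := by
  have h := iso_hom_ext hQ₀ (five_le_source hn d) (((MonoidHom.snd _ _).comp (invs hQ hn)).comp d.isoMap) 1
    fun v hv => by
      simp only [MonoidHom.coe_comp, Function.comp_apply, d.isoMap_rO, invs_rO, MonoidHom.coe_snd,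
        MonoidHom.one_apply]
      rw [sqc_eq_one_iff (d.apply_map_ne hv), d.apply_map]
      exact hsq _ hv
  exact DFunLike.congr_fun h x

include hQ₀ in
/-- An element of parity zero with non-trivial spinor norm over `F`. -/
theorem exists_isoMap_spinor [Finite F₀] {ν : F₀} (hν : ν ≠ 0) (hjν : ¬ IsSquare (d.j ν)) :
    ∃ x : ↥(Cfsg.isometryGroup F₀ (⇑Q₀)),
      (invs hQ hn (d.isoMap x)).1 = 1 ∧ (invs hQ hn (d.isoMap x)).2 ≠ 1 := by
  have h5 := five_le_source hn d
  have hd : 2 ≤ Module.finrank F₀ (κ → F₀) := by rw [Module.finrank_pi]; omega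
  obtain ⟨v, hv⟩ := exists_apply_eq hQ₀ hd (one_ne_zero (α := F₀))
  obtain ⟨w, hw⟩ := exists_apply_eq hQ₀ hd hν
  refine ⟨rO (hv.trans_ne one_ne_zero) * rO (hw.trans_ne hν), ?_, ?_⟩
  · rw [map_mul, map_mul, d.isoMap_rO, d.isoMap_rO, invs_rO, invs_rO]
    show Multiplicative.ofAdd (1 : ZMod 2) * Multiplicative.ofAdd 1 = 1
    decide
  · rw [map_mul, map_mul, d.isoMap_rO, d.isoMap_rO, invs_rO, invs_rO]
    show sqc _ * sqc _ ≠ 1
    rw [d.apply_map, d.apply_map, hv, hw, map_one, mul_one, sqc_mul d.μ.ne_zero (by simpa using hν),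
      ← mul_assoc, sqClass_mul_self, one_mul, Ne, sqc_eq_one_iff (by simpa using hν)]
    exact hjν

theorem simMult_psi {k : ℕ} (H : EvenForm Q k) (h : simGrp Q₀) :
    simMult (d.psi h) = Units.map d.j.toMonoidHom (simMult h) :=
  simMult_eq H _ _ (d.base_spec (h : GL κ F₀) _ (simMult_spec h))

/-- The sign is unchanged. -/
theorem sgn_psi_iff {k : ℕ} (H : EvenForm Q k) (H₀ : EvenForm Q₀ k) (h : simGrp Q₀) :
    sgnHom H (d.psi h) = 1 ↔ sgnHom H₀ h = 1 := by
  rw [sgnHom_eq_one_iff, sgnHom_eq_one_iff, simMult_psi d H,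
    show (simMat (d.psi h)).det = d.j (simMat h).det from d.det_base _]
  show d.j _ = d.j (simMult h : F₀) ^ k ↔ _
  rw [← map_pow]
  exact d.j.injective.eq_iff

/-! ### Squares in a finite extension -/

theorem not_isSquare_map_of_odd [Fintype F] [Fintype F₀] (j : F₀ →+* F) {r : ℕ} (hr : Odd r)
    (hcard : Fintype.card F = Fintype.card F₀ ^ r) (h2 : (2 : F₀) ≠ 0) {ν : F₀} (hν : ¬ IsSquare ν) :
    ¬ IsSquare (j ν) := by
  have hν0 : ν ≠ 0 := by rintro rfl; exact hν IsSquare.zero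
  have hc₀ : ringChar F₀ ≠ 2 := fun h => h2 (by have := ringChar.eq_iff.1 h; exact CharTwo.two_eq_zero)
  have h2F : (2 : F) ≠ 0 := fun h => h2 (j.injective (by rw [map_ofNat, map_zero]; exact h))
  have hc : ringChar F ≠ 2 := fun h => h2F (by have := ringChar.eq_iff.1 h; exact CharTwo.two_eq_zero)
  set q := Fintype.card F₀ with hq
  have hqo : q % 2 = 1 := FiniteField.odd_card_of_char_ne_two hc₀
  have hm1 : ν ^ (q / 2) = -1 :=
    ((FiniteField.pow_dichotomy hc₀ hν0)).resolve_left fun h => hν ((FiniteField.isSquare_iff hc₀ hν0).2 h)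
  rw [FiniteField.isSquare_iff hc (by simpa using hν0), hcard, ← map_pow]
  obtain ⟨l, rfl⟩ := hr
  have hsum : ∀ l, ν ^ (q ^ (2 * l + 1) / 2) = -1 := by
    intro l
    induction l with
    | zero => simpa using hm1
    | succ l ih =>
      obtain ⟨s, hs⟩ : Odd (q ^ (2 * l + 1)) := (Nat.odd_iff.2 hqo).pow
      obtain ⟨t, ht⟩ := Nat.odd_iff.2 hqo
      have e : q ^ (2 * (l + 1) + 1) / 2 = (q / 2) * (2 * t + 2) + q ^ (2 * l + 1) / 2 * (q * q) := by
        rw [show 2 * (l + 1) + 1 = 2 * l + 1 + 2 by ring, pow_add, hs, ht]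
        have e1 : (2 * t + 1) / 2 = t := by omega
        have e2 : (2 * s + 1) / 2 = s := by omega
        rw [e1, e2, show (2 * s + 1) * (2 * t + 1) ^ 2 =
          2 * (t * (2 * t + 2) + s * ((2 * t + 1) * (2 * t + 1))) + 1 by ring]
        omega
      rw [e, pow_add, pow_mul, pow_mul, hm1, ih, Even.neg_one_pow ⟨t + 1, by ring⟩,
        Odd.neg_one_pow ((Nat.odd_iff.2 hqo).mul (Nat.odd_iff.2 hqo)), one_mul]
  rw [hsum l, map_neg, map_one]
  intro h
  exact h2F (by linear_combination -h)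

theorem isSquare_map_of_two [Fintype F] [Fintype F₀] (j : F₀ →+* F)
    (hcard : Fintype.card F = Fintype.card F₀ ^ 2) (a : F₀) : IsSquare (j a) := by
  by_cases ha : a = 0
  · rw [ha, map_zero]; exact IsSquare.zero
  by_cases h2 : (2 : F) = 0
  · have : CharP F 2 := CharTwo.of_one_ne_zero_of_two_eq_zero one_ne_zero h2
    exact FiniteField.isSquare_of_char_two (ringChar.eq_iff.2 this) _
  have hc : ringChar F ≠ 2 := fun h => h2 (by have := ringChar.eq_iff.1 h; exact CharTwo.two_eq_zero)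
  obtain ⟨t, ht⟩ : Odd (Fintype.card F₀) := by
    have h := FiniteField.odd_card_of_char_ne_two hc
    rw [hcard, ← Nat.odd_iff] at h
    exact (Nat.odd_pow_iff (by norm_num)).1 h
  rw [FiniteField.isSquare_iff hc (by simpa using ha), hcard, ← map_pow,
    show Fintype.card F₀ ^ 2 / 2 = (Fintype.card F₀ - 1) * (t + 1) by
      rw [ht, show (2 * t + 1) ^ 2 = 2 * (2 * t * (t + 1)) + 1 by ring, Nat.add_sub_cancel]; omega,
    pow_mul, FiniteField.pow_card_sub_one_eq_one a ha, one_pow, map_one]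

end CfsgLib.Known.OrthFieldCent
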