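import Cfsg.Agent.Lib.Known.OrthFieldCent.Plus

/-!
# Standard field automorphisms of the minus type groups
-/

set_option autoImplicit false
set_option linter.unusedSectionVars false

open Matrix

namespace CfsgLib.Known.OrthFieldCent

open CfsgLib.Classical.Quad
open QuadraticMap (polar polarBilin)

theorem invariant_qMinus {F : Type*} [Field F] (σ : F ≃+* F) (m : ℕ) {a b : F} (ha : σ a = a) (hb : σ b = b) :
    Invariant (qMinus m F a b) σ := fun v => by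
  simp [coe_qMinus, Cfsg.quadFormMinus, map_sum, ha, hb]

theorem pair_minus {F : Type*} [Field F] (σ : F ≃+* F) (m : ℕ) {a b : F} (ha : σ a = a) (hb : σ b = b) :
    Cfsg.IsSemisimilarityPair (Cfsg.quadFormMinus m F a b) (1 : GL ((Fin m ⊕ Fin m) ⊕ Fin 2) F) σ := by
  rw [← coe_qMinus]
  exact (invariant_qMinus σ m ha hb).pair

variable {F : Type*} [Field F] [Fintype F] {p f : ℕ} [Fact p.Prime] {m r : ℕ}

set_option maxHeartbeats 800000 in
theorem minus_standard (hF : Fintype.card F = p ^ f) (hf : 1 ≤ f) (hm : 3 ≤ m) (a b : F)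
    (hab : ∀ z₁ z₂ : F, z₁ ^ 2 + a * z₁ * z₂ + b * z₂ ^ 2 = 0 → z₁ = 0 ∧ z₂ = 0)
    (φ : MulAut (Cfsg.POmega F (Cfsg.quadFormMinus m F a b))) (σ : F ≃+* F) (ha : σ a = a) (hb : σ b = b)
    (hφ : Cfsg.IsFieldAutPOmegaOf (Cfsg.quadFormMinus m F a b) σ φ) (hr : r.Prime) (hord : orderOf σ = r)
    (F₀ : Type*) [Field F₀] [Fintype F₀] (hF₀ : Fintype.card F₀ = p ^ (f / r)) :
    Odd r ∧ r ∣ f ∧
    (∃ a₀ b₀ : F₀, (∀ z₁ z₂ : F₀, z₁ ^ 2 + a₀ * z₁ * z₂ + b₀ * z₂ ^ 2 = 0 → z₁ = 0 ∧ z₂ = 0) ∧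
      Nonempty (↥(Cfsg.inndiagPOmegaMinus m F a b ⊓ Subgroup.centralizer {φ}) ≃*
        ↥(Cfsg.inndiagPOmegaMinus m F₀ a₀ b₀))) ∧
    Cfsg.splitClassCount (Cfsg.inndiagPOmegaMinus m F a b)
      (Cfsg.Inn (Cfsg.POmega F (Cfsg.quadFormMinus m F a b))) φ = 1 := by
  classical
  obtain ⟨hdvd, hcard, j, hj⟩ := exists_subfield_data hF hf σ hord F₀ hF₀
  obtain ⟨a₀, rfl⟩ := (hj a).1 ha
  obtain ⟨b₀, rfl⟩ := (hj b).1 hb
  have hab₀ : ∀ z₁ z₂ : F₀, z₁ ^ 2 + a₀ * z₁ * z₂ + b₀ * z₂ ^ 2 = 0 → z₁ = 0 ∧ z₂ = 0 := by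
    intro z₁ z₂ h
    obtain ⟨h1, h2⟩ := hab (j z₁) (j z₂) (by rw [← map_zero j, ← h]; simp only [map_add, map_mul, map_pow])
    exact ⟨j.injective (by rw [h1, map_zero]), j.injective (by rw [h2, map_zero])⟩
  have hro : Odd r := by
    refine hr.odd_of_ne_two fun hr2 => ?_
    subst hr2
    letI : Algebra F₀ F := j.toAlgebra
    have hK : Module.finrank F₀ F = 2 := by
      have h := Module.card_eq_pow_finrank (K := F₀) (V := F)
      rw [hcard] at h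
      exact (Nat.pow_right_injective Fintype.one_lt_card h).symm
    obtain ⟨t, ht⟩ := exists_root_quadratic hab₀ F hK
    refine one_ne_zero (hab t 1 ?_).2
    have e : ∀ x, algebraMap F₀ F x = j x := fun _ => rfl
    rw [e, e] at ht
    linear_combination ht
  let d : FormMap (qMinus m F₀ a₀ b₀) (qMinus m F (j a₀) (j b₀)) := minusMap m j a₀ b₀
  have hn : 7 ≤ Fintype.card ((Fin m ⊕ Fin m) ⊕ Fin 2) := by simp; omega
  have hA : (1 : GL ((Fin m ⊕ Fin m) ⊕ Fin 2) F) * semiMap σ d.A = d.A := by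
    rw [one_mul, show d.A = 1 from rfl, map_one]
  refine ⟨hro, hdvd, ?_⟩
  by_cases h2 : (2 : F) = 0
  · have h20 : (2 : F₀) = 0 := j.injective (by rw [map_ofNat, map_zero]; exact h2)
    obtain ⟨hC, hS⟩ := transfer_full (coe_qMinus m F (j a₀) (j b₀)).symm (coe_qMinus m F₀ a₀ b₀).symm
      (qMinus_nondeg hab m) hn (qMinus_nondeg hab₀ m) d (pair_minus σ m ha hb) φ (isFieldAutPOmega_cast φ hφ)
      hj hA (innS _) (innS _)
      (psi_mem_innS_two h20 (qMinus_nondeg hab₀ m) hn h2 (qMinus_nondeg hab m) d) le_rfl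
      (Cfsg.inndiagPOmegaMinus m F (j a₀) (j b₀))
      (by rw [inndiagMinus_two h2 hm hab, map_innS]; exact cast_heq _ _)
      (Cfsg.inndiagPOmegaMinus m F₀ a₀ b₀) (by rw [inndiagMinus_two h20 hm hab₀, map_innS]; exact cast_heq _ _)
    refine ⟨⟨a₀, b₀, hab₀, hC⟩, ?_⟩
    rw [hS, Subgroup.relIndex_eq_one]
    exact le_sup_left
  · have hp2 : p ≠ 2 := fun h => h2 ((two_eq_zero_iff hF hf).2 h)
    have hpo : Odd p := (Fact.out : p.Prime).odd_of_ne_two hp2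
    have hodd : Odd (Fintype.card F) := by rw [hF]; exact hpo.pow
    have hodd₀ : Odd (Fintype.card F₀) := by rw [hF₀]; exact hpo.pow
    have h20 : (2 : F₀) ≠ 0 := two_ne_zero_of_odd rfl hodd₀
    set H := evenForm_qMinus (F := F) hodd hm hab
    set H₀ := evenForm_qMinus (F := F₀) hodd₀ hm hab₀
    obtain ⟨hC, hS⟩ := transfer_full (coe_qMinus m F (j a₀) (j b₀)).symm (coe_qMinus m F₀ a₀ b₀).symm
      (qMinus_nondeg hab m) hn (qMinus_nondeg hab₀ m) d (pair_minus σ m ha hb) φ (isFieldAutPOmega_cast φ hφ)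
      hj hA (sgnHom H).ker (sgnHom H₀).ker (fun h => sgn_psi_iff d H H₀ h) (innS_le_sgn_ker H)
      (Cfsg.inndiagPOmegaMinus m F (j a₀) (j b₀))
      (by rw [inndiagMinus_eq hodd hm hab]; exact cast_heq _ _)
      (Cfsg.inndiagPOmegaMinus m F₀ a₀ b₀) (by rw [inndiagMinus_eq hodd₀ hm hab₀]; exact cast_heq _ _)
    refine ⟨⟨a₀, b₀, hab₀, hC⟩, ?_⟩
    obtain ⟨δ₀, hδm, hδs, -⟩ := exists_delta_minus (F := F₀) hodd₀ hm hab₀
    have hjα := not_isSquare_map_of_odd j hro hcard h20 hδm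
    rw [hS]
    exact relIndex_odd H d H₀ δ₀ hδs hjα (simMult δ₀).ne_zero hjα

end CfsgLib.Known.OrthFieldCent
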