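import Cfsg.Agent.Lib.Known.OrthFieldCent.Plus

/-!
# Standard field automorphisms of the odd-dimensional orthogonal groups
-/

set_option autoImplicit false
set_option linter.unusedSectionVars false

open Matrix

namespace CfsgLib.Known.OrthFieldCent

open CfsgLib.Classical.Quad
open QuadraticMap (polar polarBilin)

section OddForm

variable {F : Type*} [Field F] [Finite F] {ι : Type} [Fintype ι] [DecidableEq ι]
  {Q : QuadraticForm F (ι → F)} {m : ℕ} (hQ : (polarBilin Q).Nondegenerate) (h2 : (2 : F) ≠ 0)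
  (hm : 3 ≤ m) (hι : Fintype.card ι = 2 * m + 1)
include hQ h2 hm hι

theorem det_eq_one_iff_parity (x : ↥(Cfsg.isometryGroup F (⇑Q))) :
    ((x : GL ι F) : Matrix ι ι F).det = 1 ↔ (invs hQ (by omega) x).1 = 1 := by
  classical
  let s : Multiplicative (ZMod 2) →* Fˣ :=
    MonoidHom.mk' (fun a => if a = 1 then 1 else -1) fun a b => by
      rcases zmod_two_mult_cases a with rfl | rfl <;> rcases zmod_two_mult_cases b with rfl | rfl <;>
        simp [show Multiplicative.ofAdd (1 : ZMod 2) * Multiplicative.ofAdd 1 = 1 from by decide]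
  have key := iso_hom_ext hQ (by omega)
    (Matrix.GeneralLinearGroup.det.comp (Cfsg.isometryGroup F (⇑Q)).subtype)
    (s.comp ((MonoidHom.fst _ _).comp (invs hQ (by omega)))) fun v hv => by
      simp only [MonoidHom.coe_comp, Function.comp_apply, Subgroup.coe_subtype, det_rO, invs_rO,
        MonoidHom.coe_fst]
      show (-1 : Fˣ) = if (Multiplicative.ofAdd (1 : ZMod 2)) = 1 then (1 : Fˣ) else -1
      rw [if_neg (by decide)]
  have h := congrArg Units.val (DFunLike.congr_fun key x)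
  simp only [MonoidHom.coe_comp, Function.comp_apply, Subgroup.coe_subtype,
    Matrix.GeneralLinearGroup.val_det_apply] at h
  rw [h]
  show ((if (invs hQ (show 5 ≤ Fintype.card ι by omega) x).1 = 1 then (1 : Fˣ) else -1 : Fˣ) : F) = 1 ↔ _
  split_ifs with h'
  · exact iff_of_true rfl h'
  · exact iff_of_false (fun e => h2 (by simp at e; linear_combination -e)) h'

theorem sim_decomp_odd (g : simGrp Q) : ∃ (z : simGrp Q) (x : ↥(Cfsg.isometryGroup F (⇑Q))),
    z ∈ (conjAut Q).ker ∧ ((x : GL ι F) : Matrix ι ι F).det = 1 ∧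
      g = z * Subgroup.inclusion (isometry_le_sim Q) x := by
  set b := Pi.basisFun F ι
  set M := simMat g with hM
  set μ := (simMult g : F) with hμ
  have hdet : M.det ^ 2 = μ ^ (2 * m + 1) := by
    have h : μ • polarBilin Q =
        LinearMap.BilinForm.comp (polarBilin Q) (Matrix.toLin' M) (Matrix.toLin' M) :=
      LinearMap.ext fun u => LinearMap.ext fun v => (polar_sim g u v).symm
    have h2 := congrArg (fun B => (LinearMap.BilinForm.toMatrix b B).det) h
    rw [LinearMap.BilinForm.toMatrix_comp b, map_smul, Matrix.det_smul, Matrix.det_mul,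
      Matrix.det_mul, Matrix.det_transpose] at h2
    have h3 : (LinearMap.toMatrix b b (Matrix.toLin' M)).det = M.det := by
      rw [LinearMap.det_toMatrix, LinearMap.det_toLin']
    rw [h3] at h2
    have h0 := (LinearMap.BilinForm.nondegenerate_iff_det_ne_zero b).1 hQ
    refine mul_left_cancel₀ h0 ?_
    rw [← hι]
    linear_combination -h2
  have hμ0 : μ ≠ 0 := (simMult g).ne_zero
  have hd0 : M.det ≠ 0 := Matrix.GeneralLinearGroup.det_ne_zero (g : GL ι F)
  set c := M.det / μ ^ m with hc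
  have hc2 : c * c = μ := by
    rw [hc, div_mul_div_comm, ← sq, hdet, ← pow_add, ← two_mul, pow_succ,
      mul_div_cancel_left₀ _ (pow_ne_zero _ hμ0)]
  have hc0 : c ≠ 0 := fun h => hμ0 (by rw [← hc2, h, mul_zero])
  set z : GL ι F := Matrix.GeneralLinearGroup.scalar ι (Units.mk0 c hc0) with hz
  have hzv : (z : Matrix ι ι F) = c • 1 := by
    ext i l
    by_cases h : i = l <;> simp [hz, h]
  have hzm : z ∈ simGrp Q := ⟨simMult g, fun v => by
    rw [hzv, Matrix.smul_mulVec, Matrix.one_mulVec, apply_smul, hc2]⟩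
  have hn : 7 ≤ Fintype.card ι := by omega
  have hzk : (⟨z, hzm⟩ : simGrp Q) ∈ (conjAut Q).ker :=
    (mem_ker_iff hQ hn _).2 ⟨Units.mk0 c hc0, hzv⟩
  have hx : (z⁻¹ * (g : GL ι F)) ∈ Cfsg.isometryGroup F (⇑Q) := fun v _ => by
    show Q (((z⁻¹ * (g : GL ι F) : GL ι F) : Matrix ι ι F) *ᵥ v) = Q v
    set w := ((z⁻¹ * (g : GL ι F) : GL ι F) : Matrix ι ι F) *ᵥ v with hw
    have h1 : (z : Matrix ι ι F) *ᵥ w = M *ᵥ v := by
      rw [hw, Matrix.mulVec_mulVec, ← Units.val_mul, mul_inv_cancel_left]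
    have h3 := congrArg (⇑Q) h1
    rw [hzv, Matrix.smul_mulVec, Matrix.one_mulVec, apply_smul, hM, simMult_spec, hc2, hμ] at h3
    exact mul_left_cancel₀ hμ0 h3
  refine ⟨⟨z, hzm⟩, ⟨_, hx⟩, hzk, ?_, Subtype.ext (mul_inv_cancel_left z (g : GL ι F)).symm⟩
  show (((z⁻¹ * (g : GL ι F) : GL ι F)) : Matrix ι ι F).det = 1
  rw [← Matrix.GeneralLinearGroup.val_det_apply, map_mul, map_inv, Units.val_mul,
    Units.val_inv_eq_inv_val, Matrix.GeneralLinearGroup.val_det_apply,
    Matrix.GeneralLinearGroup.val_det_apply, hzv, Matrix.det_smul, Matrix.det_one, mul_one, hι,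
    pow_succ, pow_mul, sq, hc2, hc]
  show (μ ^ m * (M.det / μ ^ m))⁻¹ * M.det = 1
  rw [mul_div_cancel₀ _ (pow_ne_zero _ hμ0), inv_mul_cancel₀ hd0]

theorem incl_mem_innS_odd (x : ↥(Cfsg.isometryGroup F (⇑Q))) (hx : ((x : GL ι F) : Matrix ι ι F).det = 1) :
    Subgroup.inclusion (isometry_le_sim Q) x ∈ innS Q ↔ (invs hQ (by omega) x).2 = 1 := by
  have hn : 7 ≤ Fintype.card ι := by omega
  have hΩ : x ∈ Cfsg.Omega F (⇑Q) ↔ (invs hQ (by omega) x).2 = 1 := by
    rw [← invs_eq_one_iff hQ (by omega) x, Prod.ext_iff]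
    exact ⟨fun h => h.2, fun h => ⟨(det_eq_one_iff_parity hQ h2 hm hι x).1 hx, h⟩⟩
  rw [← hΩ]
  refine ⟨fun h => ?_, omega_mem_innS⟩
  rw [innS_eq, Subgroup.mem_sup_of_normal_right] at h
  obtain ⟨y, ⟨ω, hω, hy⟩, z, hz, e⟩ := h
  obtain ⟨c, hc⟩ := (mem_ker_iff hQ hn z).1 hz
  have e' : (y : GL ι F) * (z : GL ι F) = x := congrArg Subtype.val e
  have hxz : ((ω⁻¹ * x : ↥(Cfsg.isometryGroup F (⇑Q))) : GL ι F) = (z : GL ι F) := by
    rw [Subgroup.coe_mul, Subgroup.coe_inv, ← e', show ((ω : GL ι F)) = (y : GL ι F) from hy,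
      inv_mul_cancel_left]
  have hzm : ((z : GL ι F) : Matrix ι ι F) = (c : F) • 1 := hc
  haveI : Nontrivial (ι → F) :=
    Module.nontrivial_of_finrank_pos (R := F) (by rw [Module.finrank_pi]; omega)
  obtain ⟨v, hv⟩ := exists_apply_ne_zero hQ
  have hcc : (c : F) * c = 1 := mul_right_cancel₀ hv (by
    have h1 := (ω⁻¹ * x).2 v v
    change Q (((((ω⁻¹ * x : ↥(Cfsg.isometryGroup F (⇑Q))) : GL ι F)) : Matrix ι ι F) *ᵥ v) = Q v at h1
    rw [hxz, hzm, Matrix.smul_mulVec, Matrix.one_mulVec, apply_smul] at h1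
    rw [h1, one_mul])
  have hωd : ((ω : GL ι F) : Matrix ι ι F).det = 1 :=
    (det_eq_one_iff_parity hQ h2 hm hι ω).2 (by rw [(invs_eq_one_iff hQ (by omega) ω).2 hω]; rfl)
  have hd : (c : F) = 1 := by
    have h1 : (((ω⁻¹ * x : ↥(Cfsg.isometryGroup F (⇑Q))) : GL ι F) : Matrix ι ι F).det = 1 := by
      rw [Subgroup.coe_mul, Subgroup.coe_inv, ← Matrix.GeneralLinearGroup.val_det_apply, map_mul, map_inv,
        Units.val_mul, Units.val_inv_eq_inv_val, Matrix.GeneralLinearGroup.val_det_apply,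
        Matrix.GeneralLinearGroup.val_det_apply, hωd, hx, inv_one, one_mul]
    rw [hxz, hzm, Matrix.det_smul, Matrix.det_one, mul_one, hι, pow_succ, pow_mul, sq, hcc, one_pow,
      one_mul] at h1
    exact h1
  have : ω⁻¹ * x = 1 := Subtype.ext (Units.ext (by rw [hxz, hzm, hd, one_smul]; rfl))
  rwa [inv_mul_eq_one.1 this] at hω

end OddForm

theorem invariant_qOdd {F : Type*} [Field F] (σ : F ≃+* F) (m : ℕ) : Invariant (qOdd m F) σ := fun v => by
  simp [coe_qOdd, Cfsg.quadFormOdd, map_sum]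

theorem pair_odd {F : Type*} [Field F] (σ : F ≃+* F) (m : ℕ) :
    Cfsg.IsSemisimilarityPair (Cfsg.quadFormOdd m F) (1 : GL (Unit ⊕ (Fin m ⊕ Fin m)) F) σ := by
  rw [← coe_qOdd]
  exact (invariant_qOdd σ m).pair

theorem inndiagOdd_eq {F : Type*} [Field F] (m : ℕ) :
    HEq (Cfsg.inndiagPOmegaOdd m F) ((⊤ : Subgroup (simGrp (qOdd m F))).map (conjAut (qOdd m F))) := by
  have h : Cfsg.inndiagPOmegaOdd m F = Cfsg.pgoAut F (Cfsg.quadFormOdd m F) := rfl
  rw [h, ← MonoidHom.range_eq_map, ← pgoAut_eq, coe_qOdd]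

variable {F : Type*} [Field F] [Fintype F] {p f : ℕ} [Fact p.Prime] {m r : ℕ}

set_option maxHeartbeats 800000 in
theorem odd_standard (hF : Fintype.card F = p ^ f) (hf : 1 ≤ f) (hodd : Odd (Fintype.card F)) (hm : 3 ≤ m)
    (φ : MulAut (Cfsg.POmega F (Cfsg.quadFormOdd m F))) (σ : F ≃+* F)
    (hφ : Cfsg.IsFieldAutPOmegaOf (Cfsg.quadFormOdd m F) σ φ) (hr : r.Prime) (hord : orderOf σ = r)
    (F₀ : Type*) [Field F₀] [Fintype F₀] (hF₀ : Fintype.card F₀ = p ^ (f / r)) :
    Nonempty (↥(Cfsg.inndiagPOmegaOdd m F ⊓ Subgroup.centralizer {φ}) ≃* ↥(Cfsg.inndiagPOmegaOdd m F₀)) ∧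
    (Odd r → Cfsg.splitClassCount (Cfsg.inndiagPOmegaOdd m F)
      (Cfsg.Inn (Cfsg.POmega F (Cfsg.quadFormOdd m F))) φ = 1) ∧
    (r = 2 → Cfsg.splitClassCount (Cfsg.inndiagPOmegaOdd m F)
      (Cfsg.Inn (Cfsg.POmega F (Cfsg.quadFormOdd m F))) φ = 2) := by
  classical
  obtain ⟨hdvd, hcard, j, hj⟩ := exists_subfield_data hF hf σ hord F₀ hF₀
  have h2 : (2 : F) ≠ 0 := two_ne_zero_of_odd rfl hodd
  have h20 : (2 : F₀) ≠ 0 := fun h => h2 (by rw [← map_ofNat j, h, map_zero])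
  let d : FormMap (qOdd m F₀) (qOdd m F) :=
    { j := j, e := Equiv.refl _, A := 1, μ := 1
      spec := fun v => by simp [coe_qOdd, Cfsg.quadFormOdd, map_sum] }
  have hι : Fintype.card (Unit ⊕ (Fin m ⊕ Fin m)) = 2 * m + 1 := by simp; omega
  have hn : 7 ≤ Fintype.card (Unit ⊕ (Fin m ⊕ Fin m)) := by omega
  have hQ := qOdd_nondeg (F := F) h2 m
  have hQ₀ := qOdd_nondeg (F := F₀) h20 m
  have hA : (1 : GL (Unit ⊕ (Fin m ⊕ Fin m)) F) * semiMap σ d.A = d.A := by
    rw [one_mul, show d.A = 1 from rfl, map_one]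
  obtain ⟨hC, hS⟩ := transfer_full (coe_qOdd m F).symm (coe_qOdd m F₀).symm hQ hn hQ₀ d (pair_odd σ m) φ
    (isFieldAutPOmega_cast φ hφ) hj hA ⊤ ⊤ (fun _ => iff_of_true trivial trivial) le_top
    _ (inndiagOdd_eq m) _ (inndiagOdd_eq m)
  rw [Subgroup.relIndex_top_right] at hS
  refine ⟨hC, fun hro => ?_, fun hr2 => ?_⟩
  · obtain ⟨ν, hν⟩ := FiniteField.exists_nonsquare (F := F₀)
      (fun h => h20 (by have := ringChar.eq_iff.1 h; exact CharTwo.two_eq_zero))
    have hν0 : ν ≠ 0 := by rintro rfl; exact hν IsSquare.zero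
    obtain ⟨e, he1, he2⟩ := exists_isoMap_spinor hQ (by omega) hQ₀ d hν0
      (not_isSquare_map_of_odd j hro hcard h20 hν)
    rw [hS, Subgroup.index_eq_one, eq_top_iff]
    intro g _
    obtain ⟨z, x, hz, hxd, rfl⟩ := sim_decomp_odd hQ h2 hm hι g
    refine mul_mem (Subgroup.mem_sup_left (by rw [innS_eq]; exact Subgroup.mem_sup_right hz)) ?_
    by_cases hs : (invs hQ (by omega) x).2 = 1
    · exact Subgroup.mem_sup_left ((incl_mem_innS_odd hQ h2 hm hι x hxd).2 hs)
    · have hed : ((d.isoMap e : GL (Unit ⊕ (Fin m ⊕ Fin m)) F) : Matrix (Unit ⊕ (Fin m ⊕ Fin m)) (Unit ⊕ (Fin m ⊕ Fin m)) F).det = 1 :=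
        (det_eq_one_iff_parity hQ h2 hm hι _).2 he1
      have hxe : Subgroup.inclusion (isometry_le_sim _) (x * d.isoMap e) ∈ innS (qOdd m F) := by
        refine (incl_mem_innS_odd hQ h2 hm hι _ ?_).2 ?_
        · rw [Subgroup.coe_mul, Units.val_mul, Matrix.det_mul, hxd, hed, one_mul]
        · rw [map_mul, Prod.snd_mul]
          have hc := card_sqClass_of_odd h2
          have : Finite (SqClass F) := Nat.finite_of_card_ne_zero (by omega)
          rw [((Nat.card_eq_two_iff' (1 : SqClass F)).1 hc).unique hs he2, sqClass_mul_self]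
      rw [map_mul] at hxe
      have h := mul_mem (Subgroup.mem_sup_left (T := Subgroup.map d.psi ⊤) hxe) (Subgroup.inv_mem _
        (Subgroup.mem_sup_right (S := innS (qOdd m F)) (T := Subgroup.map d.psi ⊤)
          (x := Subgroup.inclusion (isometry_le_sim _) (d.isoMap e))
          ⟨Subgroup.inclusion (isometry_le_sim _) e, trivial, d.psi_incl e⟩))
      rwa [mul_inv_cancel_right] at h
  · subst hr2
    have hsq := isSquare_map_of_two j hcard
    have hle : Subgroup.map d.psi ⊤ ≤ innS (qOdd m F) := by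
      rintro _ ⟨g, -, rfl⟩
      obtain ⟨z, x, hz, hxd, rfl⟩ := sim_decomp_odd hQ₀ h20 hm hι g
      rw [map_mul, d.psi_incl]
      refine mul_mem ?_ ((incl_mem_innS_odd hQ h2 hm hι _ ?_).2 ?_)
      · rw [innS_eq]
        refine Subgroup.mem_sup_right ?_
        rw [ker_conjAut hQ hn]
        rw [ker_conjAut hQ₀ hn] at hz
        exact (d.base_scalar_iff _).2 hz
      · exact (d.det_base _).trans (by rw [Subgroup.coe_subtype, hxd, map_one])
      · exact spinor_isoMap_eq_one hQ (by omega) hQ₀ d (fun a _ => by simpa [d] using hsq a) x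
    rw [hS, sup_of_le_left hle]
    obtain ⟨α, hα⟩ := FiniteField.exists_nonsquare (F := F)
      (fun h => h2 (by have := ringChar.eq_iff.1 h; exact CharTwo.two_eq_zero))
    have hα0 : α ≠ 0 := by rintro rfl; exact hα IsSquare.zero
    have hd : 2 ≤ Module.finrank F (Unit ⊕ (Fin m ⊕ Fin m) → F) := by rw [Module.finrank_pi]; omega
    obtain ⟨u, hu⟩ := exists_apply_eq hQ hd (one_ne_zero (α := F))
    obtain ⟨w, hw⟩ := exists_apply_eq hQ hd hα0
    set e := rO (hu.trans_ne one_ne_zero) * rO (hw.trans_ne hα0) with he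
    have hed : ((e : GL (Unit ⊕ (Fin m ⊕ Fin m)) F) : Matrix (Unit ⊕ (Fin m ⊕ Fin m)) (Unit ⊕ (Fin m ⊕ Fin m)) F).det = 1 :=
      (det_eq_one_iff_parity hQ h2 hm hι _).2 (by
        rw [he, map_mul, invs_rO, invs_rO]; show Multiplicative.ofAdd (1 : ZMod 2) * Multiplicative.ofAdd 1 = 1; decide)
    have hes : (invs hQ (by omega) e).2 ≠ 1 := by
      rw [he, map_mul, invs_rO, invs_rO, Prod.snd_mul, hu, hw, sqc_one, one_mul, Ne, sqc_eq_one_iff hα0]
      exact hα
    have hnot : Subgroup.inclusion (isometry_le_sim _) e ∉ innS (qOdd m F) := fun h =>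
      hes ((incl_mem_innS_odd hQ h2 hm hι e hed).1 h)
    refine Subgroup.index_eq_two_iff_exists_notMem_and.2
      ⟨Subgroup.inclusion (isometry_le_sim _) e, hnot, fun g => ?_⟩
    obtain ⟨z, x, hz, hxd, rfl⟩ := sim_decomp_odd hQ h2 hm hι g
    have hzi : z ∈ innS (qOdd m F) := by rw [innS_eq]; exact Subgroup.mem_sup_right hz
    by_cases hs : (invs hQ (by omega) x).2 = 1
    · exact Or.inr (mul_mem hzi ((incl_mem_innS_odd hQ h2 hm hι x hxd).2 hs))
    · left
      rw [mul_assoc, ← map_mul]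
      refine mul_mem hzi ((incl_mem_innS_odd hQ h2 hm hι _ ?_).2 ?_)
      · rw [Subgroup.coe_mul, Units.val_mul, Matrix.det_mul, hxd, hed, one_mul]
      · rw [map_mul, Prod.snd_mul]
        have hc := card_sqClass_of_odd h2
        have : Finite (SqClass F) := Nat.finite_of_card_ne_zero (by omega)
        rw [((Nat.card_eq_two_iff' (1 : SqClass F)).1 hc).unique hs hes, sqClass_mul_self]

end CfsgLib.Known.OrthFieldCent
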