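import Cfsg.Agent.Lib.Known.OrthFieldCent.Twisted
import Cfsg.Agent.Lib.Known.OrthFieldCent.Odd
import Cfsg.Agent.Lib.Known.AutPOmega.Gamma

/-!
# The inner-diagonal groups are normal in the automorphism groups
-/

set_option autoImplicit false
set_option linter.unusedSectionVars false

open Matrix

namespace CfsgLib.Known.OrthFieldCent

open CfsgLib.Classical.Quad
open QuadraticMap (polar polarBilin)

theorem inn_normal (G : Type*) [Group G] : (Cfsg.Inn G).Normal := ⟨fun x hx β => by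
  obtain ⟨a, rfl⟩ := hx
  refine ⟨β a, MulEquiv.ext fun y => ?_⟩
  simp [MulAut.mul_apply, MulAut.conj_apply]⟩

/-- A subgroup of similarities stable under the semisimilarities gives a normal subgroup. -/
theorem normal_of_semi {F : Type*} [Field F] [Finite F] {ι : Type} [Fintype ι] [DecidableEq ι]
    {Q : QuadraticForm F (ι → F)} {f : (ι → F) → F} (hf : f = ⇑Q)
    (hall : ∀ β : MulAut (Cfsg.POmega F (⇑Q)), ∃ (g : GL ι F) (σ : F ≃+* F),
      Cfsg.IsSemisimilarityPair (⇑Q) g σ ∧ Cfsg.IsInducedBySemilinearPOmega (⇑Q) g σ β)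
    (P : Subgroup (simGrp Q))
    (hP : ∀ (g : GL ι F) (σ : F ≃+* F) (hp : Cfsg.IsSemisimilarityPair (⇑Q) g σ) (h : simGrp Q),
      h ∈ P → (FormMap.ofPair hp).psi h ∈ P)
    (S : Subgroup (MulAut (Cfsg.POmega F f))) (hS : HEq S (P.map (conjAut Q))) : S.Normal := by
  subst hf
  obtain rfl := eq_of_heq hS
  refine ⟨?_⟩
  rintro _ ⟨g, hg, rfl⟩ β
  obtain ⟨h, σ, hp, hi⟩ := hall β
  refine ⟨(FormMap.ofPair hp).psi g, hP h σ hp g hg, ?_⟩
  rw [eq_mul_inv_iff_mul_eq, conj_formula hp hi g]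

/-- The order of the field automorphism, for some spelling of the form. -/
theorem orderOf_isField_cast {F : Type*} [Field F] [Finite F] {ι : Type} [Fintype ι] [DecidableEq ι]
    {Q : QuadraticForm F (ι → F)} {f : (ι → F) → F} (hf : f = ⇑Q) (hQ : (polarBilin Q).Nondegenerate)
    (hn : 7 ≤ Fintype.card ι) {σ : F ≃+* F} (hσ : Invariant Q σ) {φ : MulAut (Cfsg.POmega F f)}
    (hφ : Cfsg.IsFieldAutPOmegaOf f σ φ) : orderOf φ = orderOf σ := by
  subst hf
  exact orderOf_isField hQ hn hσ hφ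

/-- Moving both conclusions along a conjugation. -/
theorem conj_full {X : Type*} [Group X] (H K : Subgroup X) [H.Normal] [K.Normal] {a x z : X}
    (h : a * x * a⁻¹ = z) :
    Cfsg.splitClassCount H K x = Cfsg.splitClassCount H K z ∧
      Nonempty (↥(H ⊓ Subgroup.centralizer {x}) ≃* ↥(H ⊓ Subgroup.centralizer {z})) := by
  subst h
  exact ⟨(ClassSplit.splitClassCount_conj H K a x).symm, ClassSplit.nonempty_centralizer_conj H a x⟩

variable {F : Type*} [Field F] [Fintype F]

theorem inndiagOdd_normal (hodd : Odd (Fintype.card F)) {m : ℕ} (hm : 3 ≤ m) :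
    (Cfsg.inndiagPOmegaOdd m F).Normal := by
  obtain ⟨D, hT⟩ := AutPOmega.big_qOdd (F := F) (two_ne_zero_of_odd rfl hodd) hm
  exact normal_of_semi (coe_qOdd m F).symm (AutPOmega.exists_induced D hT) ⊤
    (fun _ _ _ _ _ => trivial) _ (inndiagOdd_eq m)

theorem inndiagPlus_normal {m : ℕ} (hm : 4 ≤ m) (h : 5 ≤ m ∨ (2 : F) = 0) :
    (Cfsg.inndiagPOmegaPlus m F).Normal := by
  classical
  by_cases h2 : (2 : F) = 0
  · have key : ∀ {f : (Fin m ⊕ Fin m → F) → F} (_ : f = ⇑(qPlus m F)) (S : Subgroup (MulAut (Cfsg.POmega F f))),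
        HEq S (Cfsg.Inn (Cfsg.POmega F (⇑(qPlus m F)))) → S.Normal := by
      intro f hf S hS
      subst hf
      obtain rfl := eq_of_heq hS
      exact inn_normal _
    exact key (coe_qPlus m F).symm _ (by rw [inndiagPlus_two h2 hm]; exact cast_heq _ _)
  · have hodd : Odd (Fintype.card F) := Nat.odd_iff.2 (FiniteField.odd_card_of_char_ne_two fun hc => h2 (by
      have := ringChar.eq_iff.1 hc; exact CharTwo.two_eq_zero))
    obtain ⟨D, hT⟩ := AutPOmega.big_qPlus (F := F) (h.resolve_right h2)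
    exact normal_of_semi (coe_qPlus m F).symm (AutPOmega.exists_induced D hT)
      (sgnHom (evenForm_qPlus hodd hm)).ker
      (fun g σ hp x hx => (sgn_psi_iff (FormMap.ofPair hp) _ _ x).2 hx) _
      (by rw [inndiagPlus_eq hodd hm]; exact cast_heq _ _)

theorem inndiagMinus_normal {m : ℕ} (hm : 3 ≤ m) {a b : F}
    (hab : ∀ z₁ z₂ : F, z₁ ^ 2 + a * z₁ * z₂ + b * z₂ ^ 2 = 0 → z₁ = 0 ∧ z₂ = 0) :
    (Cfsg.inndiagPOmegaMinus m F a b).Normal := by
  classical
  by_cases h2 : (2 : F) = 0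
  · have key : ∀ {f : ((Fin m ⊕ Fin m) ⊕ Fin 2 → F) → F} (_ : f = ⇑(qMinus m F a b))
        (S : Subgroup (MulAut (Cfsg.POmega F f))),
        HEq S (Cfsg.Inn (Cfsg.POmega F (⇑(qMinus m F a b)))) → S.Normal := by
      intro f hf S hS
      subst hf
      obtain rfl := eq_of_heq hS
      exact inn_normal _
    exact key (coe_qMinus m F a b).symm _ (by rw [inndiagMinus_two h2 hm hab]; exact cast_heq _ _)
  · have hodd : Odd (Fintype.card F) := Nat.odd_iff.2 (FiniteField.odd_card_of_char_ne_two fun hc => h2 (by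
      have := ringChar.eq_iff.1 hc; exact CharTwo.two_eq_zero))
    obtain ⟨D, hT⟩ := AutPOmega.big_qMinus (F := F) hm hab
    exact normal_of_semi (coe_qMinus m F a b).symm (AutPOmega.exists_induced D hT)
      (sgnHom (evenForm_qMinus hodd hm hab)).ker
      (fun g σ hp x hx => (sgn_psi_iff (FormMap.ofPair hp) _ _ x).2 hx) _
      (by rw [inndiagMinus_eq hodd hm hab]; exact cast_heq _ _)

end CfsgLib.Known.OrthFieldCent
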