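import Cfsg.Agent.Lib.Known.OrthFieldCent.Minus
import Cfsg.Agent.Lib.Known.OrthFieldCent.Normal
import Cfsg.Agent.Lib.Known.QuadClassify
import Cfsg.Agent.Lib.Classical.Quad.PlusMinusType

/-!
# Changing the coefficients of the minus type form
-/

set_option autoImplicit false
set_option linter.unusedSectionVars false

open Matrix

namespace CfsgLib.Known.OrthFieldCent

open CfsgLib.Classical.Quad
open QuadraticMap (polar polarBilin)

universe u

/-- An isomorphism carries the splitting over. -/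
theorem splitClassCount_map {X Y : Type*} [Group X] [Group Y] (Θ : X ≃* Y) (H K : Subgroup X) (x : X) :
    Cfsg.splitClassCount (H.map Θ.toMonoidHom) (K.map Θ.toMonoidHom) (Θ x) = Cfsg.splitClassCount H K x := by
  have key : ∀ (L : Subgroup X) (a b : X),
      Cfsg.IsConjUnder (L.map Θ.toMonoidHom) (Θ a) (Θ b) ↔ Cfsg.IsConjUnder L a b := by
    intro L a b
    constructor
    · rintro ⟨_, ⟨k, hk, rfl⟩, e⟩
      refine ⟨k, hk, Θ.injective ?_⟩
      rw [e]
      simp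
    · rintro ⟨k, hk, rfl⟩
      exact ⟨Θ k, ⟨k, hk, rfl⟩, by simp⟩
  let e : {y : X // Cfsg.IsConjUnder H x y} ≃ {y : Y // Cfsg.IsConjUnder (H.map Θ.toMonoidHom) (Θ x) y} :=
    Equiv.subtypeEquiv Θ.toEquiv fun y => (key H x y).symm
  exact (Nat.card_congr (Quot.congr e fun y z => (key K y.1 z.1).symm)).symm

theorem nonempty_centralizer_map {X Y : Type*} [Group X] [Group Y] (Θ : X ≃* Y) (H : Subgroup X) (x : X) :
    Nonempty (↥(H ⊓ Subgroup.centralizer {x}) ≃*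
      ↥(H.map Θ.toMonoidHom ⊓ Subgroup.centralizer {Θ x})) := by
  refine ⟨(Θ.subgroupMap _).trans (MulEquiv.subgroupCongr ?_)⟩
  ext y
  constructor
  · rintro ⟨g, ⟨hg, hc⟩, rfl⟩
    refine ⟨⟨g, hg, rfl⟩, Subgroup.mem_centralizer_singleton_iff.2 ?_⟩
    show Θ g * Θ x = Θ x * Θ g
    rw [← map_mul, ← map_mul, Subgroup.mem_centralizer_singleton_iff.1 hc]
  · rintro ⟨⟨g, hg, rfl⟩, hc⟩
    refine ⟨g, ⟨hg, Subgroup.mem_centralizer_singleton_iff.2 (Θ.injective ?_)⟩, rfl⟩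
    rw [map_mul, map_mul]
    exact Subgroup.mem_centralizer_singleton_iff.1 hc

theorem map_inn {G G' : Type*} [Group G] [Group G'] (ψ : G ≃* G') :
    (Cfsg.Inn G).map (MulAut.congr ψ).toMonoidHom = Cfsg.Inn G' := by
  ext β
  constructor
  · rintro ⟨_, ⟨a, rfl⟩, rfl⟩
    exact ⟨ψ a, MulEquiv.ext fun y => by simp [MulAut.congr, MulAut.conj_apply]⟩
  · rintro ⟨a, rfl⟩
    exact ⟨MulAut.conj (ψ.symm a), ⟨_, rfl⟩, MulEquiv.ext fun y => by simp [MulAut.congr, MulAut.conj_apply]⟩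

variable {F : Type u} [Field F] {ι : Type} [Fintype ι] [DecidableEq ι]
  {Q Q' : QuadraticForm F (ι → F)}

/-- A linear isometry between two forms on the same coordinates. -/
def linearMapData (A : GL ι F) (h : ∀ v, Q' ((A : Matrix ι ι F) *ᵥ v) = Q v) : FormMap Q Q' where
  j := RingHom.id F
  e := Equiv.refl ι
  A := A
  μ := 1
  spec v := by simpa using h v

theorem linearMapData_base (A : GL ι F) (h : ∀ v, Q' ((A : Matrix ι ι F) *ᵥ v) = Q v) (g : GL ι F) :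
    (linearMapData A h).base g = A * g * A⁻¹ := by
  rw [FormMap.coe_base]
  congr 2

/-- The isomorphism of the isometry groups. -/
noncomputable def isoEquiv (A : GL ι F) (h : ∀ v, Q' ((A : Matrix ι ι F) *ᵥ v) = Q v) :
    ↥(Cfsg.isometryGroup F (⇑Q)) ≃* ↥(Cfsg.isometryGroup F (⇑Q')) where
  toFun := (linearMapData A h).isoMap
  invFun := (linearMapData A⁻¹ (Q := Q') (Q' := Q) fun v => by
    rw [← h, Matrix.mulVec_mulVec, ← Units.val_mul, mul_inv_cancel, Units.val_one, Matrix.one_mulVec]).isoMap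
  left_inv x := Subtype.ext (by
    show (linearMapData A⁻¹ _).base ((linearMapData A h).base (x : GL ι F)) = _
    rw [linearMapData_base, linearMapData_base]
    group)
  right_inv x := Subtype.ext (by
    show (linearMapData A h).base ((linearMapData A⁻¹ _).base (x : GL ι F)) = _
    rw [linearMapData_base, linearMapData_base]
    group)
  map_mul' := map_mul _

/-- The isomorphism of the simple groups, intertwining the automorphisms of the similarities. -/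
theorem exists_transport (A : GL ι F) (h : ∀ v, Q' ((A : Matrix ι ι F) *ᵥ v) = Q v) :
    ∃ ψ : Cfsg.POmega F (⇑Q) ≃* Cfsg.POmega F (⇑Q'),
      ∀ g : simGrp Q, MulAut.congr ψ (conjAut Q g) = conjAut Q' ((linearMapData A h).psi g) := by
  set E := isoEquiv A h
  have hmap : (Cfsg.Omega F (⇑Q)).map E.toMonoidHom = Cfsg.Omega F (⇑Q') := by
    show (⁅⊤, ⊤⁆ : Subgroup ↥(Cfsg.isometryGroup F (⇑Q))).map _ = _
    rw [Subgroup.map_commutator, Subgroup.map_top_of_surjective E.toMonoidHom E.surjective]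
    rfl
  let E' : ↥(Cfsg.Omega F (⇑Q)) ≃* ↥(Cfsg.Omega F (⇑Q')) :=
    (E.subgroupMap _).trans (MulEquiv.subgroupCongr hmap)
  let ψ : Cfsg.POmega F (⇑Q) ≃* Cfsg.POmega F (⇑Q') :=
    QuotientGroup.congr _ _ E' (map_center_eq E')
  refine ⟨ψ, fun g => MulEquiv.ext fun y => ?_⟩
  obtain ⟨y, rfl⟩ := ψ.surjective y
  induction y using QuotientGroup.induction_on with
  | H s =>
    show ψ (conjAut Q g (ψ.symm (ψ (QuotientGroup.mk s)))) = _
    rw [ψ.symm_apply_apply, conjAut_mk]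
    show QuotientGroup.mk (E' _) = conjAut Q' _ (QuotientGroup.mk (E' s))
    rw [conjAut_mk]
    refine congrArg _ (Subtype.ext (Subtype.ext ?_))
    simp only [commRestrict_apply, conjO_apply]
    show (linearMapData A h).base _ = _
    simp only [commRestrict_apply, conjO_apply]
    rw [linearMapData_base, FormMap.coe_psi, linearMapData_base]
    show _ = _ * (linearMapData A h).base ((s : ↥(Cfsg.isometryGroup F (⇑Q))) : GL ι F) * _
    rw [linearMapData_base, Subgroup.coe_subtype, conjO_apply]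
    group

variable [Finite F]

/-- Minus type forms with the same dimension are isometric. -/
theorem exists_minus_isometry {m : ℕ} {a b a' b' : F}
    (hab : ∀ z₁ z₂ : F, z₁ ^ 2 + a * z₁ * z₂ + b * z₂ ^ 2 = 0 → z₁ = 0 ∧ z₂ = 0)
    (hab' : ∀ z₁ z₂ : F, z₁ ^ 2 + a' * z₁ * z₂ + b' * z₂ ^ 2 = 0 → z₁ = 0 ∧ z₂ = 0) :
    ∃ A : GL ((Fin m ⊕ Fin m) ⊕ Fin 2) F, ∀ v, qMinus m F a' b'
      ((A : Matrix ((Fin m ⊕ Fin m) ⊕ Fin 2) ((Fin m ⊕ Fin m) ⊕ Fin 2) F) *ᵥ v) = qMinus m F a b v := by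
  have hcl : ∀ a b : F, (∀ z₁ z₂ : F, z₁ ^ 2 + a * z₁ * z₂ + b * z₂ ^ 2 = 0 → z₁ = 0 ∧ z₂ = 0) →
      ∃ (ζ : F) (e : ((Fin m ⊕ Fin m) ⊕ Fin 2 → F) ≃ₗ[F] ((Fin m ⊕ Fin m) ⊕ Fin 2 → F)),
        (∀ t : F, t ^ 2 + t + ζ ≠ 0) ∧ ∀ v, qMinus m F a b (e v) = Cfsg.quadFormMinus m F 1 ζ v := by
    intro a b hab
    rcases QuadClassify.classify_even (m := m + 1) (by rw [Module.finrank_pi]; simp; omega) (qMinus m F a b)
      (qMinus_nondeg hab m) with ⟨e, he⟩ | ⟨-, ζ, e, hζ, he⟩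
    · exfalso
      obtain ⟨T, hT1, hT2⟩ := exists_sing_qPlus (F := F) (m + 1)
      have := qMinus_no_half hab m (T.map (e : _ →ₗ[F] _)) (by
        rintro _ ⟨w, hw, rfl⟩
        rw [LinearEquiv.coe_coe, he, ← coe_qPlus]
        exact hT2 w hw)
      rw [LinearEquiv.finrank_map_eq, hT1] at this
      omega
    · exact ⟨ζ, e, hζ, he⟩
  obtain ⟨ζ, e, hζ, he⟩ := hcl a b hab
  obtain ⟨η, e', hη, he'⟩ := hcl a' b' hab'
  obtain ⟨g, hg⟩ := QuadClassify.minus_equiv m hη hζ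
  let L := (e.symm.trans g).trans e'
  have hL : ∀ v, qMinus m F a' b' (L v) = qMinus m F a b v := fun v => by
    show qMinus m F a' b' (e' (g (e.symm v))) = _
    rw [he', hg, ← he, e.apply_symm_apply]
  refine ⟨{ val := LinearMap.toMatrix' (L : _ →ₗ[F] _), inv := LinearMap.toMatrix' (L.symm : _ →ₗ[F] _),
            val_inv := by rw [← LinearMap.toMatrix'_comp]; simp
            inv_val := by rw [← LinearMap.toMatrix'_comp]; simp }, fun v => ?_⟩
  rw [LinearMap.toMatrix'_mulVec]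
  exact hL v

/-- A surjective semilinear map between subgroups of similarities. -/
theorem map_congr_transport {f f' : (ι → F) → F} (hf : f = ⇑Q) (hf' : f' = ⇑Q') (A : GL ι F)
    (h : ∀ v, Q' ((A : Matrix ι ι F) *ᵥ v) = Q v) (P : Subgroup (simGrp Q)) (P' : Subgroup (simGrp Q'))
    (hP : ∀ g, (linearMapData A h).psi g ∈ P' ↔ g ∈ P)
    (S : Subgroup (MulAut (Cfsg.POmega F f))) (hS : HEq S (P.map (conjAut Q)))
    (S' : Subgroup (MulAut (Cfsg.POmega F f'))) (hS' : HEq S' (P'.map (conjAut Q'))) [S'.Normal]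
    (ψ : Cfsg.POmega F f ≃* Cfsg.POmega F f') : S.map (MulAut.congr ψ).toMonoidHom = S' := by
  subst hf hf'
  obtain rfl := eq_of_heq hS
  obtain rfl := eq_of_heq hS'
  obtain ⟨χ, hχ⟩ := exists_transport A h
  set a : MulAut (Cfsg.POmega F (⇑Q')) := χ.symm.trans ψ
  have hfac : ∀ g, MulAut.congr ψ (conjAut Q g) = a * conjAut Q' ((linearMapData A h).psi g) * a⁻¹ := fun g => by
    rw [← hχ]
    exact MulEquiv.ext fun y => by simp [a, MulAut.congr, MulAut.mul_apply, MulAut.inv_def]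
  refine le_antisymm ?_ fun β hβ => ?_
  · rintro _ ⟨_, ⟨g, hg, rfl⟩, rfl⟩
    show MulAut.congr ψ (conjAut Q g) ∈ _
    rw [hfac]
    exact ‹(P'.map (conjAut Q')).Normal›.conj_mem _ (Subgroup.mem_map_of_mem _ ((hP g).2 hg)) a
  · obtain ⟨g', hg', hgb⟩ := ‹(P'.map (conjAut Q')).Normal›.conj_mem β hβ a⁻¹
    have hback : ∀ v, Q ((((A⁻¹ : GL ι F)) : Matrix ι ι F) *ᵥ v) = Q' v := fun v => by
      rw [← h, Matrix.mulVec_mulVec, ← Units.val_mul, mul_inv_cancel, Units.val_one, Matrix.one_mulVec]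
    set g := (linearMapData A⁻¹ hback).psi g'
    have hgg : (linearMapData A h).psi g = g' := by
      refine Subtype.ext ?_
      rw [FormMap.coe_psi, linearMapData_base, FormMap.coe_psi, linearMapData_base]
      group
    refine ⟨conjAut Q g, Subgroup.mem_map_of_mem _ ((hP g).1 (by rw [hgg]; exact hg')), ?_⟩
    show MulAut.congr ψ (conjAut Q g) = β
    rw [hfac, hgg, hgb]
    group

/-- The change of coefficients carries the inner-diagonal group over, whatever the isomorphism. -/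
theorem map_inndiagMinus [Fintype F] {m : ℕ} (hm : 3 ≤ m) {a b a' b' : F}
    (hab : ∀ z₁ z₂ : F, z₁ ^ 2 + a * z₁ * z₂ + b * z₂ ^ 2 = 0 → z₁ = 0 ∧ z₂ = 0)
    (hab' : ∀ z₁ z₂ : F, z₁ ^ 2 + a' * z₁ * z₂ + b' * z₂ ^ 2 = 0 → z₁ = 0 ∧ z₂ = 0)
    (ψ : Cfsg.POmega F (Cfsg.quadFormMinus m F a b) ≃* Cfsg.POmega F (Cfsg.quadFormMinus m F a' b')) :
    (Cfsg.inndiagPOmegaMinus m F a b).map (MulAut.congr ψ).toMonoidHom =
      Cfsg.inndiagPOmegaMinus m F a' b' := by
  haveI := inndiagMinus_normal hm hab'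
  obtain ⟨A, hA⟩ := exists_minus_isometry hab hab'
  have hn : 7 ≤ Fintype.card ((Fin m ⊕ Fin m) ⊕ Fin 2) := by simp; omega
  by_cases h2 : (2 : F) = 0
  · exact map_congr_transport (coe_qMinus m F a b).symm (coe_qMinus m F a' b').symm A hA (innS _) (innS _)
      (psi_mem_innS_two h2 (qMinus_nondeg hab m) hn h2 (qMinus_nondeg hab' m) _) _
      (by rw [inndiagMinus_two h2 hm hab, map_innS]; exact cast_heq _ _) _
      (by rw [inndiagMinus_two h2 hm hab', map_innS]; exact cast_heq _ _) ψ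
  · have hodd : Odd (Fintype.card F) := Nat.odd_iff.2 (FiniteField.odd_card_of_char_ne_two fun hc => h2 (by
      have := ringChar.eq_iff.1 hc; exact CharTwo.two_eq_zero))
    exact map_congr_transport (coe_qMinus m F a b).symm (coe_qMinus m F a' b').symm A hA
      (sgnHom (evenForm_qMinus hodd hm hab)).ker (sgnHom (evenForm_qMinus hodd hm hab')).ker
      (fun g => sgn_psi_iff _ _ _ g) _
      (by rw [inndiagMinus_eq hodd hm hab]; exact cast_heq _ _) _
      (by rw [inndiagMinus_eq hodd hm hab']; exact cast_heq _ _) ψ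

theorem minus_full [Fintype F] {p f : ℕ} [Fact p.Prime] (hF : Fintype.card F = p ^ f) (hf : 1 ≤ f) {m : ℕ}
    (hm : 3 ≤ m) (a b : F) (hab : ∀ z₁ z₂ : F, z₁ ^ 2 + a * z₁ * z₂ + b * z₂ ^ 2 = 0 → z₁ = 0 ∧ z₂ = 0)
    (x : MulAut (Cfsg.POmega F (Cfsg.quadFormMinus m F a b))) (hx : Cfsg.IsFieldAutClassPOmegaMinus m x)
    {r : ℕ} (hr : r.Prime) (hxr : orderOf x = r) (F₀ : Type*) [Field F₀] [Fintype F₀]
    (hF₀ : Fintype.card F₀ = p ^ (f / r)) :
    Odd r ∧ r ∣ f ∧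
    (∃ a₀ b₀ : F₀, (∀ z₁ z₂ : F₀, z₁ ^ 2 + a₀ * z₁ * z₂ + b₀ * z₂ ^ 2 = 0 → z₁ = 0 ∧ z₂ = 0) ∧
      Nonempty (↥(Cfsg.inndiagPOmegaMinus m F a b ⊓ Subgroup.centralizer {x}) ≃*
        ↥(Cfsg.inndiagPOmegaMinus m F₀ a₀ b₀))) ∧
    Cfsg.splitClassCount (Cfsg.inndiagPOmegaMinus m F a b)
      (Cfsg.Inn (Cfsg.POmega F (Cfsg.quadFormMinus m F a b))) x = 1 := by
  obtain ⟨a', b', ψ, σ, hab', -, ha, hb, hφ⟩ := hx
  have hφe : MulAut.congr ψ x = (ψ.symm.trans x).trans ψ := rfl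
  have hn : 7 ≤ Fintype.card ((Fin m ⊕ Fin m) ⊕ Fin 2) := by simp; omega
  have hord : orderOf σ = r := by
    rw [← orderOf_isField_cast (coe_qMinus m F a' b').symm (qMinus_nondeg hab' m) hn
      (invariant_qMinus σ m ha hb) hφ, ← hφe]
    exact ((MulAut.congr ψ).orderOf_eq x).trans hxr
  obtain ⟨h1, h2, ⟨a₀, b₀, hab₀, ⟨c⟩⟩, h4⟩ :=
    minus_standard hF hf hm a' b' hab' _ σ ha hb hφ hr hord F₀ hF₀
  obtain ⟨e⟩ := nonempty_centralizer_map (MulAut.congr ψ) (Cfsg.inndiagPOmegaMinus m F a b) x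
  rw [map_inndiagMinus hm hab hab' ψ, hφe] at e
  refine ⟨h1, h2, ⟨a₀, b₀, hab₀, ⟨e.trans c⟩⟩, ?_⟩
  rw [← splitClassCount_map (MulAut.congr ψ), map_inndiagMinus hm hab hab' ψ, map_inn, hφe]
  exact h4

end CfsgLib.Known.OrthFieldCent
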