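import Cfsg.Agent.Lib.Known.OrthFieldCent.FormMap
import Cfsg.Agent.Lib.Known.ClassSplit

/-!
# Centralisers, among the similarities, of an automorphism induced by a semilinear map
-/

set_option autoImplicit false
set_option linter.unusedSectionVars false

open Matrix

namespace CfsgLib.Known.OrthFieldCent

open CfsgLib.Classical.Quad
open QuadraticMap (polar polarBilin)

variable {F : Type*} [Field F] [Finite F] {ι : Type} [Fintype ι] [DecidableEq ι]
  {Q : QuadraticForm F (ι → F)}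

omit [Finite F] in
/-- Conjugating the automorphism of a similarity by one of a semilinear map. -/
theorem conj_formula {R : GL ι F} {σ : F ≃+* F} (hp : Cfsg.IsSemisimilarityPair (⇑Q) R σ)
    {z : MulAut (Cfsg.POmega F (⇑Q))} (hz : Cfsg.IsInducedBySemilinearPOmega (⇑Q) R σ z)
    (g : simGrp Q) : z * conjAut Q g = conjAut Q ((FormMap.ofPair hp).psi g) * z := by
  refine MulEquiv.ext fun x => ?_
  induction x using QuotientGroup.induction_on with
  | H s =>
    rw [MulAut.mul_apply, MulAut.mul_apply, conjAut_mk,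
      hz _ ⟨_, semiConj_omega hp _⟩ (coe_semiConj hp _), hz s ⟨_, semiConj_omega hp s⟩ (coe_semiConj hp _),
      conjAut_mk]
    refine congrArg _ (Subtype.ext (Subtype.ext ?_))
    simp only [commRestrict_apply, conjO_apply]
    show R * semiMap σ _ * R⁻¹ = _
    simp only [commRestrict_apply, conjO_apply, FormMap.coe_psi, FormMap.ofPair_base]
    show R * semiMap σ ((g : GL ι F) * ((s : ↥(Cfsg.isometryGroup F (⇑Q))) : GL ι F) * (g : GL ι F)⁻¹) * R⁻¹ =
      R * semiMap σ (g : GL ι F) * R⁻¹ * (R * semiMap σ ((s : ↥(Cfsg.isometryGroup F (⇑Q))) : GL ι F) * R⁻¹) *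
        (R * semiMap σ (g : GL ι F) * R⁻¹)⁻¹
    simp only [map_mul, map_inv]
    group

variable (hQ : (polarBilin Q).Nondegenerate) (hn : 7 ≤ Fintype.card ι)
include hQ hn

theorem mem_ker_iff (g : simGrp Q) :
    g ∈ (conjAut Q).ker ↔ ∃ c : Fˣ, simMat g = (c : F) • 1 := by
  rw [ker_conjAut hQ hn]
  exact Cfsg.Geo.mem_scalars_iff _

theorem commute_iff {R : GL ι F} {σ : F ≃+* F} (hp : Cfsg.IsSemisimilarityPair (⇑Q) R σ)
    {z : MulAut (Cfsg.POmega F (⇑Q))} (hz : Cfsg.IsInducedBySemilinearPOmega (⇑Q) R σ z)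
    (g : simGrp Q) : conjAut Q g * z = z * conjAut Q g ↔
      ∃ c : Fˣ, ((R * semiMap σ (g : GL ι F) * R⁻¹ : GL ι F) : Matrix ι ι F) = (c : F) • simMat g := by
  rw [conj_formula hp hz, mul_left_inj, eq_comm, ← inv_mul_eq_one, ← map_inv, ← map_mul, ← MonoidHom.mem_ker,
    mem_ker_iff hQ hn]
  set g' := (FormMap.ofPair hp).psi g
  have hg' : (g' : GL ι F) = R * semiMap σ (g : GL ι F) * R⁻¹ := by
    rw [FormMap.coe_psi, FormMap.ofPair_base]
  rw [← hg']
  refine ⟨fun ⟨c, hc⟩ => ⟨c⁻¹, ?_⟩, fun ⟨c, hc⟩ => ⟨c⁻¹, ?_⟩⟩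
  · have h : simMat g' * simMat (g'⁻¹ * g) = simMat g := by
      show simMat (g' * (g'⁻¹ * g)) = _
      rw [mul_inv_cancel_left]
    rw [hc, Matrix.mul_smul, mul_one] at h
    rw [← h, smul_smul, Units.inv_mul, one_smul]
  · show ((g' : GL ι F)⁻¹ : GL ι F).1 * simMat g = _
    have h : simMat g = ((c⁻¹ : Fˣ) : F) • ((g' : GL ι F) : Matrix ι ι F) := by
      rw [hc, smul_smul, Units.inv_mul, one_smul]
    rw [h, Matrix.mul_smul, Units.inv_mul]

variable {F₀ : Type*} [Field F₀] [Finite F₀] {κ : Type} [Fintype κ] [DecidableEq κ]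
  {Q₀ : QuadraticForm F₀ (κ → F₀)} (hQ₀ : (polarBilin Q₀).Nondegenerate) (d : FormMap Q₀ Q)
  {R : GL ι F} {σ : F ≃+* F} (hp : Cfsg.IsSemisimilarityPair (⇑Q) R σ)
  {z : MulAut (Cfsg.POmega F (⇑Q))} (hz : Cfsg.IsInducedBySemilinearPOmega (⇑Q) R σ z)
  (hj : ∀ a : F, σ a = a ↔ a ∈ d.j.range) (hA : R * semiMap σ d.A = d.A)

include hj hA in
omit hQ hn [Finite F] in
/-- The image of the small group is fixed. -/
theorem psi_fixed (h : simGrp Q₀) : R * semiMap σ (d.psi h : GL ι F) * R⁻¹ = (d.psi h : GL ι F) := by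
  have hl : semiMap σ (d.lift (h : GL κ F₀)) = d.lift (h : GL κ F₀) := Units.ext (by
    rw [coe_semiMap]
    ext a b
    exact (hj _).2 ⟨_, rfl⟩)
  rw [FormMap.coe_psi, FormMap.coe_base, map_mul, map_mul, map_inv, hl]
  conv_rhs => rw [← hA]
  group

include hp hz hj hA in
theorem psi_commute (h : simGrp Q₀) : conjAut Q (d.psi h) * z = z * conjAut Q (d.psi h) := by
  refine (commute_iff hQ hn hp hz _).2 ⟨1, ?_⟩
  rw [Units.val_one, one_smul]
  exact congrArg Units.val (psi_fixed d hj hA h)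

include hQ₀ hp hz hj hA in
theorem exists_descent (g : simGrp Q) (hg : conjAut Q g * z = z * conjAut Q g) :
    ∃ h : simGrp Q₀, g⁻¹ * d.psi h ∈ (conjAut Q).ker := by
  classical
  obtain ⟨c, hc⟩ := (commute_iff hQ hn hp hz g).1 hg
  set G : GL ι F := d.A⁻¹ * (g : GL ι F) * d.A with hG
  have hσG : (semiMap σ G : GL ι F).1 = (c : F) • (G : Matrix ι ι F) := by
    have e : semiMap σ G = d.A⁻¹ * (R * semiMap σ (g : GL ι F) * R⁻¹) * d.A := by
      rw [hG, map_mul, map_mul, map_inv]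
      have h2 : semiMap σ d.A = R⁻¹ * d.A := eq_inv_mul_iff_mul_eq.2 hA
      rw [h2]
      group
    have h3 : ∀ X : GL ι F, ((d.A⁻¹ * X * d.A : GL ι F) : Matrix ι ι F) =
        ((d.A⁻¹ : GL ι F) : Matrix ι ι F) * (X : Matrix ι ι F) * (d.A : Matrix ι ι F) := fun _ => rfl
    rw [e, hG, h3, h3, hc]
    simp only [Matrix.mul_smul, Matrix.smul_mul]
  obtain ⟨a, b, hab⟩ : ∃ a b, (G : Matrix ι ι F) a b ≠ 0 := by
    by_contra hcon
    simp only [not_exists, not_not] at hcon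
    haveI : Nonempty ι := Fintype.card_pos_iff.1 (by omega)
    exact G.ne_zero (Matrix.ext hcon)
  set t := (G : Matrix ι ι F) a b with ht
  have hσt : σ t = c * t := congrFun₂ hσG a b
  have hfix : ∀ u v, t⁻¹ * (G : Matrix ι ι F) u v ∈ d.j.range := fun u v => by
    rw [← hj, map_mul, map_inv₀, hσt, show σ ((G : Matrix ι ι F) u v) = c * (G : Matrix ι ι F) u v from
      congrFun₂ hσG u v]
    field_simp
  choose m hm using hfix
  let M : Matrix κ κ F₀ := Matrix.of fun u v => m (d.e u) (d.e v)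
  have hM : Matrix.reindex d.e d.e (M.map d.j) = t⁻¹ • (G : Matrix ι ι F) := by
    ext u v
    simp [M, hm]
  have hdet : M.det ≠ 0 := fun h0 => by
    have h1 := congrArg Matrix.det hM
    rw [Matrix.det_reindex_self, ← RingHom.mapMatrix_apply, ← RingHom.map_det, h0, map_zero, det_smul] at h1
    exact mul_ne_zero (pow_ne_zero _ (inv_ne_zero hab)) (Matrix.GeneralLinearGroup.det G).ne_zero
      (by rw [Matrix.GeneralLinearGroup.val_det_apply]; exact h1.symm)
  let h₀ : GL κ F₀ := Matrix.GeneralLinearGroup.mkOfDetNeZero M hdet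
  have hbase : ((d.base h₀ : GL ι F) : Matrix ι ι F) = t⁻¹ • simMat g := by
    rw [FormMap.coe_base, Units.val_mul, Units.val_mul, FormMap.coe_lift]
    show (d.A : Matrix ι ι F) * Matrix.reindex d.e d.e (M.map d.j) * _ = _
    rw [hM, hG, Units.val_mul, Units.val_mul, Matrix.mul_smul, Matrix.smul_mul]
    congr 1
    show (d.A : Matrix ι ι F) * (_ * simMat g * _) * _ = _
    rw [← mul_assoc, ← mul_assoc, Units.mul_inv, one_mul, mul_assoc, Units.mul_inv, mul_one]
  haveI : Nontrivial (κ → F₀) := by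
    have hc0 : 0 < Fintype.card κ := by rw [Fintype.card_congr d.e]; omega
    exact Module.nontrivial_of_finrank_pos (R := F₀) (by rw [Module.finrank_pi]; exact hc0)
  obtain ⟨v₀, hv₀⟩ := exists_apply_ne_zero hQ₀
  set l₀ := Q₀ (M *ᵥ v₀) / Q₀ v₀ with hl₀
  have hval : ∀ v, d.j (Q₀ (M *ᵥ v)) = (t⁻¹ * t⁻¹ * (simMult g : F)) * d.j (Q₀ v) := fun v => by
    refine mul_left_cancel₀ d.μ.ne_zero ?_
    rw [← d.apply_map, show M *ᵥ v = (h₀ : Matrix κ κ F₀) *ᵥ v from rfl, ← d.base_mulVec_map, hbase,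
      Matrix.smul_mulVec, apply_smul, simMult_spec, d.apply_map]
    ring
  have hmul : t⁻¹ * t⁻¹ * (simMult g : F) = d.j l₀ := by
    rw [hl₀, map_div₀, hval, mul_div_assoc, div_self (by simpa using hv₀), mul_one]
  have hl0 : l₀ ≠ 0 := fun h => by
    rw [h, map_zero] at hmul
    exact mul_ne_zero (mul_ne_zero (inv_ne_zero hab) (inv_ne_zero hab)) (simMult g).ne_zero hmul
  have hh : h₀ ∈ simGrp Q₀ := ⟨Units.mk0 l₀ hl0, fun v => d.j.injective (by
    rw [map_mul, Units.val_mk0, ← hmul]; exact hval v)⟩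
  refine ⟨⟨h₀, hh⟩, (mem_ker_iff hQ hn _).2 ⟨Units.mk0 t⁻¹ (inv_ne_zero hab), ?_⟩⟩
  show ((g : GL ι F)⁻¹ : GL ι F).1 * ((d.base h₀ : GL ι F) : Matrix ι ι F) = _
  rw [hbase, Matrix.mul_smul, Units.inv_mul]
  rfl

variable (P : Subgroup (simGrp Q)) (P₀ : Subgroup (simGrp Q₀))
  (hP : ∀ h, d.psi h ∈ P ↔ h ∈ P₀) (hkP : (conjAut Q).ker ≤ P)

include hQ₀ hp hz hj hA hP hkP in
theorem nonempty_centralizer :
    Nonempty (↥(P.map (conjAut Q) ⊓ Subgroup.centralizer {z}) ≃* ↥(P₀.map (conjAut Q₀))) := by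
  have hn₀ : 7 ≤ Fintype.card κ := by rw [Fintype.card_congr d.e]; exact hn
  haveI : Nonempty κ := Fintype.card_pos_iff.1 (by omega)
  let Φ : P₀ →* ↥(P.map (conjAut Q) ⊓ Subgroup.centralizer {z}) :=
    ((conjAut Q).comp (d.psi.comp P₀.subtype)).codRestrict _ fun h =>
      ⟨Subgroup.mem_map_of_mem _ ((hP _).2 h.2),
        Subgroup.mem_centralizer_singleton_iff.2 (psi_commute hQ hn d hp hz hj hA _)⟩
  have hΦ : Function.Surjective Φ := by
    rintro ⟨_, ⟨g, hg, rfl⟩, hc⟩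
    obtain ⟨h, hh⟩ := exists_descent hQ hn hQ₀ d hp hz hj hA g (Subgroup.mem_centralizer_singleton_iff.1 hc)
    refine ⟨⟨h, (hP h).1 ?_⟩, Subtype.ext ?_⟩
    · rw [show d.psi h = g * (g⁻¹ * d.psi h) by group]
      exact mul_mem hg (hkP hh)
    · show conjAut Q (d.psi h) = conjAut Q g
      rw [MonoidHom.mem_ker, map_mul, map_inv, inv_mul_eq_one] at hh
      exact hh.symm
  have hk : Φ.ker = (conjAut Q₀).ker.subgroupOf P₀ := by
    ext h
    rw [MonoidHom.mem_ker, ← Subtype.coe_inj, Subgroup.mem_subgroupOf, ker_conjAut hQ₀ hn₀]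
    show d.psi (h : simGrp Q₀) ∈ (conjAut Q).ker ↔ _
    rw [ker_conjAut hQ hn]
    exact d.base_scalar_iff _
  have hr : (conjAut Q₀).comp P₀.subtype = (conjAut Q₀).comp P₀.subtype := rfl
  let Ψ : P₀ →* ↥(P₀.map (conjAut Q₀)) :=
    ((conjAut Q₀).comp P₀.subtype).codRestrict _ fun h => Subgroup.mem_map_of_mem _ h.2
  have hΨ : Function.Surjective Ψ := by
    rintro ⟨_, g, hg, rfl⟩
    exact ⟨⟨g, hg⟩, rfl⟩
  have hkΨ : Ψ.ker = (conjAut Q₀).ker.subgroupOf P₀ := by
    ext h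
    rw [MonoidHom.mem_ker, ← Subtype.coe_inj]
    rfl
  exact ⟨(QuotientGroup.quotientKerEquivOfSurjective Φ hΦ).symm.trans
    ((QuotientGroup.quotientMulEquivOfEq (hk.trans hkΨ.symm)).trans
      (QuotientGroup.quotientKerEquivOfSurjective Ψ hΨ))⟩

include hQ₀ hp hz hj hA hP hkP in
theorem split_index (hiP : innS Q ≤ P) :
    Cfsg.splitClassCount (P.map (conjAut Q)) (Cfsg.Inn (Cfsg.POmega F (⇑Q))) z =
      (innS Q ⊔ P₀.map d.psi).relIndex P := by
  set Φ := (conjAut Q).comp P.subtype with hΦ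
  have hr : Φ.range = P.map (conjAut Q) := by
    rw [hΦ, MonoidHom.range_comp, Subgroup.range_subtype]
  have hle : Cfsg.Inn (Cfsg.POmega F (⇑Q)) ≤ Φ.range := by
    rw [hr, inn_eq]
    refine Subgroup.map_mono (le_trans ?_ hiP)
    rw [innS_eq]
    exact le_sup_left
  rw [← hr, ClassSplit.splitClassCount_eq_index Φ _ hle, Subgroup.relIndex]
  have hψP : P₀.map d.psi ≤ P := by
    rintro _ ⟨h, hh, rfl⟩
    exact (hP h).2 hh
  congr 1
  rw [Subgroup.subgroupOf_sup hiP hψP]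
  refine le_antisymm (sup_le le_sup_left ?_) (sup_le le_sup_left ?_)
  · intro g hg
    obtain ⟨h, hh⟩ := exists_descent hQ hn hQ₀ d hp hz hj hA (g : simGrp Q)
      (Subgroup.mem_centralizer_singleton_iff.1 hg)
    have hψ : d.psi h ∈ P := by
      rw [show d.psi h = (g : simGrp Q) * ((g : simGrp Q)⁻¹ * d.psi h) by group]
      exact mul_mem g.2 (hkP hh)
    have e : g = ⟨_, hψ⟩ * ⟨_, inv_mem (hkP hh)⟩ := Subtype.ext (by
      show (g : simGrp Q) = d.psi h * ((g : simGrp Q)⁻¹ * d.psi h)⁻¹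
      group)
    rw [e]
    refine mul_mem (Subgroup.mem_sup_right ⟨h, (hP h).1 hψ, rfl⟩) (Subgroup.mem_sup_left ?_)
    show conjAut Q ((g : simGrp Q)⁻¹ * d.psi h)⁻¹ ∈ Cfsg.Inn _
    rw [map_inv, MonoidHom.mem_ker.1 hh, inv_one]
    exact one_mem _
  · intro g hg
    obtain ⟨h, -, hh⟩ := hg
    refine Subgroup.mem_sup_right (Subgroup.mem_centralizer_singleton_iff.2 ?_)
    show conjAut Q (g : simGrp Q) * z = z * conjAut Q (g : simGrp Q)
    rw [show (g : simGrp Q) = d.psi h from hh.symm]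
    exact psi_commute hQ hn d hp hz hj hA h

end CfsgLib.Known.OrthFieldCent
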