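import Cfsg.Agent.Lib.Known.OrthFieldCent.Descent
import Cfsg.Agent.Lib.Known.AutPSL.FieldCent

/-!
# Standard field automorphisms of a form with coefficients in the fixed field
-/

set_option autoImplicit false
set_option linter.unusedSectionVars false

open Matrix

namespace CfsgLib.Known.OrthFieldCent

open CfsgLib.Classical.Quad
open QuadraticMap (polar polarBilin)

variable {F : Type*} [Field F] {ι : Type} [Fintype ι] [DecidableEq ι]
  {Q : QuadraticForm F (ι → F)}

/-- The coefficients of `Q` are fixed by `σ`. -/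
def Invariant (Q : QuadraticForm F (ι → F)) (σ : F ≃+* F) : Prop :=
  ∀ v, Q (fun i => σ (v i)) = σ (Q v)

theorem Invariant.pair {σ : F ≃+* F} (h : Invariant Q σ) : Cfsg.IsSemisimilarityPair (⇑Q) 1 σ :=
  ⟨1, fun v => by simpa using h v⟩

theorem Invariant.trans {σ τ : F ≃+* F} (hσ : Invariant Q σ) (hτ : Invariant Q τ) : Invariant Q (σ * τ) :=
  fun v => by
    show Q (fun i => σ (τ (v i))) = σ (τ (Q v))
    rw [hσ, hτ]

theorem Invariant.pow {σ : F ≃+* F} (h : Invariant Q σ) : ∀ k : ℕ, Invariant Q (σ ^ k)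
  | 0 => fun _ => rfl
  | k + 1 => by rw [pow_succ]; exact (h.pow k).trans h

theorem induced_one_iff {σ : F ≃+* F} (β : MulAut (Cfsg.POmega F (⇑Q))) :
    Cfsg.IsInducedBySemilinearPOmega (⇑Q) 1 σ β ↔ Cfsg.IsFieldAutPOmegaOf (⇑Q) σ β := by
  refine forall_congr' fun s => forall_congr' fun s' => imp_congr_left ?_
  simp

theorem induced_unique {g : GL ι F} {σ : F ≃+* F} (hp : Cfsg.IsSemisimilarityPair (⇑Q) g σ)
    {β β' : MulAut (Cfsg.POmega F (⇑Q))} (h : Cfsg.IsInducedBySemilinearPOmega (⇑Q) g σ β)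
    (h' : Cfsg.IsInducedBySemilinearPOmega (⇑Q) g σ β') : β = β' := by
  refine MulEquiv.ext fun x => ?_
  induction x using QuotientGroup.induction_on with
  | H s =>
    rw [h s ⟨_, semiConj_omega hp s⟩ (coe_semiConj hp _), h' s ⟨_, semiConj_omega hp s⟩ (coe_semiConj hp _)]

theorem isField_one : Cfsg.IsFieldAutPOmegaOf (⇑Q) (1 : F ≃+* F) 1 := fun s s' hs => by
  rw [MulAut.one_apply]
  refine congrArg _ (Subtype.ext (Subtype.ext (Units.ext ?_)))
  rw [hs]
  exact Matrix.ext fun _ _ => rfl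

theorem isField_mul {σ τ : F ≃+* F} (hτi : Invariant Q τ) {β γ : MulAut (Cfsg.POmega F (⇑Q))}
    (hβ : Cfsg.IsFieldAutPOmegaOf (⇑Q) σ β) (hγ : Cfsg.IsFieldAutPOmegaOf (⇑Q) τ γ) :
    Cfsg.IsFieldAutPOmegaOf (⇑Q) (σ * τ) (β * γ) := fun s s' hs => by
  have hc : ∀ M : Matrix ι ι F, (1 : Matrix ι ι F) * M * ((1⁻¹ : GL ι F) : Matrix ι ι F) = M := fun M => by simp
  rw [MulAut.mul_apply, hγ s ⟨_, semiConj_omega hτi.pair s⟩ (by
    rw [coe_semiConj, Units.val_one, hc])]
  refine hβ _ _ ?_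
  show _ = Matrix.map ((semiConj hτi.pair (s : ↥(Cfsg.isometryGroup F (⇑Q))) : GL ι F) : Matrix ι ι F) σ
  rw [hs, coe_semiConj, Units.val_one, hc, Matrix.map_map]
  rfl

theorem isField_pow {σ : F ≃+* F} (hσi : Invariant Q σ) {β : MulAut (Cfsg.POmega F (⇑Q))}
    (hβ : Cfsg.IsFieldAutPOmegaOf (⇑Q) σ β) : ∀ k : ℕ, Cfsg.IsFieldAutPOmegaOf (⇑Q) (σ ^ k) (β ^ k)
  | 0 => isField_one
  | k + 1 => by rw [pow_succ, pow_succ]; exact isField_mul hσi (isField_pow hσi hβ k) hβ

variable [Finite F] (hQ : (polarBilin Q).Nondegenerate) (hn : 7 ≤ Fintype.card ι)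
include hQ hn

/-- Only the identity of the field gives the identity. -/
theorem isField_one_inj {σ : F ≃+* F} (hσi : Invariant Q σ)
    (h : Cfsg.IsFieldAutPOmegaOf (⇑Q) σ (1 : MulAut (Cfsg.POmega F (⇑Q)))) : σ = 1 := by
  let f : ↥(Cfsg.Omega F (⇑Q)) →* ↥(Cfsg.Omega F (⇑Q)) :=
    ((semiConj hσi.pair).comp (Cfsg.Omega F (⇑Q)).subtype).codRestrict _ (semiConj_omega hσi.pair)
  have hfix : ∀ s, f s = s := hom_eq_id_of_centerQuot (commutator_Omega_top hQ hn) f fun s => by
    refine QuotientGroup.eq.1 ?_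
    have h1 := h s (f s) (by
      show ((semiConj hσi.pair (s : ↥(Cfsg.isometryGroup F (⇑Q))) : GL ι F) : Matrix ι ι F) = _
      rw [coe_semiConj]
      simp)
    exact h1
  have h5 : 5 ≤ Module.finrank F (ι → F) := by rw [Module.finrank_pi]; omega
  haveI : Nontrivial (ι → F) := Module.nontrivial_of_finrank_pos (R := F) (by omega)
  obtain ⟨w, -, hw, -, hw0⟩ : ∃ w : ι → F, True ∧ Q w = 0 ∧ True ∧ w ≠ 0 := by
    obtain ⟨v, hv⟩ := exists_ne (0 : ι → F)
    obtain ⟨x, y, hx, -, -, -, hxy⟩ := exists_singular_pair_perp hQ h5 hv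
    exact ⟨x, trivial, hx, trivial, fun h0 => by rw [h0, QuadraticMap.polar_zero_left] at hxy; exact zero_ne_one hxy⟩
  obtain ⟨x, y, hx, hy, hwx, hwy, hxy⟩ := exists_singular_pair_perp hQ h5 hw0
  -- the one-parameter group `1 + c N`
  set N : Matrix ι ι F := LinearMap.toMatrix'
    (((polarBilin Q).flip x).smulRight w - ((polarBilin Q).flip w).smulRight x) with hN
  have hel : ∀ c : F, ∃ s : ↥(Cfsg.Omega F (⇑Q)),
      (((s : ↥(Cfsg.isometryGroup F (⇑Q))) : GL ι F) : Matrix ι ι F) = 1 + c • N := by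
    intro c
    have ha : polar Q w (c • x) = 0 := by rw [polar_smul_right', hwx, mul_zero]
    refine ⟨(omegaEquiv Q).symm (eichΩ hQ h5 hw ha), Matrix.toLin'.injective (LinearMap.ext fun z => ?_)⟩
    rw [Matrix.toLin'_apply, ← oEquiv_apply]
    show ((((omegaEquiv Q ((omegaEquiv Q).symm (eichΩ hQ h5 hw ha)) : commutator (OQ Q)) : OQ Q) :
      (ι → F) ≃ₗ[F] (ι → F))) z = _
    rw [MulEquiv.apply_symm_apply]
    show (eich hQ hw ha : (ι → F) ≃ₗ[F] (ι → F)) z = _
    rw [eich_apply, polar_smul_right', apply_smul, hx, map_add, map_smul, Matrix.toLin'_one, hN,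
      Matrix.toLin'_toMatrix']
    simp only [LinearMap.add_apply, LinearMap.id_apply, LinearMap.smul_apply, LinearMap.sub_apply,
      LinearMap.smulRight_apply, LinearMap.flip_apply, QuadraticMap.polarBilin_apply_apply]
    module
  have hmap : ∀ c : F, (1 + c • N).map σ = 1 + c • N := fun c => by
    obtain ⟨s, hs⟩ := hel c
    have h1 := congrArg (fun t : ↥(Cfsg.Omega F (⇑Q)) =>
      (((t : ↥(Cfsg.isometryGroup F (⇑Q))) : GL ι F) : Matrix ι ι F)) (hfix s)
    change ((semiConj hσi.pair (s : ↥(Cfsg.isometryGroup F (⇑Q))) : GL ι F) : Matrix ι ι F) = _ at h1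
    rw [coe_semiConj, hs] at h1
    simpa using h1
  obtain ⟨a, b, hab⟩ : ∃ a b, N a b ≠ 0 := by
    by_contra hcon
    simp only [not_exists, not_not] at hcon
    have h0 : N = 0 := Matrix.ext hcon
    have h1 := congrArg (fun M => Matrix.toLin' M y) h0
    simp [hN, polar_self', hwy, QuadraticMap.polar_comm (⇑Q) y x, hxy, QuadraticMap.polar_comm (⇑Q) y w] at h1
    exact hw0 h1
  refine RingEquiv.ext fun c => ?_
  have e1 := congrFun₂ (hmap 1) a b
  have e2 := congrFun₂ (hmap c) a b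
  simp only [Matrix.map_apply, Matrix.add_apply, Matrix.smul_apply, map_add, map_mul, smul_eq_mul,
    Matrix.one_apply, apply_ite σ, map_one, map_zero, one_mul, add_right_inj] at e1 e2
  rw [e1] at e2
  exact mul_right_cancel₀ hab e2

/-- A standard field automorphism has the order of the field automorphism. -/
theorem orderOf_isField {σ : F ≃+* F} (hσi : Invariant Q σ) {β : MulAut (Cfsg.POmega F (⇑Q))}
    (hβ : Cfsg.IsFieldAutPOmegaOf (⇑Q) σ β) : orderOf β = orderOf σ := by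
  refine orderOf_eq_orderOf_iff.2 fun k => ?_
  constructor
  · intro hk
    have h := isField_pow hσi hβ k
    rw [hk] at h
    exact isField_one_inj hQ hn (hσi.pow k) h
  · intro hk
    have h := isField_pow hσi hβ k
    rw [hk] at h
    exact induced_unique (hσi.pow 0).pair ((induced_one_iff _).2 h) ((induced_one_iff _).2 isField_one)

end CfsgLib.Known.OrthFieldCent
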