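import Cfsg.Agent.Lib.Known.OrthFieldCent.Plus
import Cfsg.Agent.Lib.Known.Descent

/-!
# The standard graph-field involution of a plus type group
-/

set_option autoImplicit false
set_option linter.unusedSectionVars false

open Matrix

namespace CfsgLib.Known.OrthFieldCent

open CfsgLib.Classical.Quad
open QuadraticMap (polar polarBilin)

/-- An automorphism of a similarity after a standard field automorphism. -/
theorem induced_conj_mul {F : Type*} [Field F] {ι : Type} [Fintype ι] [DecidableEq ι]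
    {f : (ι → F) → F} {Q : QuadraticForm F (ι → F)} (hf : f = ⇑Q) {g : GL ι F}
    {σ : F ≃+* F} (hσ : Invariant Q σ) {γ φ : MulAut (Cfsg.POmega F f)}
    (hγ : Cfsg.IsInducedBySemilinearPOmega f g (RingEquiv.refl F) γ)
    (hφ : Cfsg.IsFieldAutPOmegaOf f σ φ) : Cfsg.IsInducedBySemilinearPOmega f g σ (γ * φ) := by
  subst hf
  intro s s' hs
  rw [MulAut.mul_apply, hφ s ⟨_, semiConj_omega hσ.pair s⟩ (by rw [coe_semiConj]; simp)]
  refine hγ _ _ ?_
  rw [hs]
  show _ = _ * Matrix.map ((semiConj hσ.pair (s : ↥(Cfsg.isometryGroup F (⇑Q))) : GL ι F) : Matrix ι ι F)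
    (RingEquiv.refl F) * _
  rw [coe_semiConj]
  simp

/-- Re-indexing of the coordinates. -/
def twistIndex (n : ℕ) : (Fin n ⊕ Fin n) ⊕ Fin 2 ≃ Fin (n + 1) ⊕ Fin (n + 1) where
  toFun := Sum.elim (Sum.elim (fun i => Sum.inl i.succ) fun i => Sum.inr i.succ) ![Sum.inl 0, Sum.inr 0]
  invFun := Sum.elim (Fin.cons (Sum.inr 0) fun i => Sum.inl (Sum.inl i))
    (Fin.cons (Sum.inr 1) fun i => Sum.inl (Sum.inr i))
  left_inv := by
    rintro ((i | i) | i)
    · simp
    · simp
    · fin_cases i <;> simp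
  right_inv := by
    rintro (i | i) <;> induction i using Fin.cases <;> simp

/-- The change of coordinates `(z₁, z₂) ↦ (z₁ + θ z₂, z₁ + θ' z₂)` in the first pair. -/
def twistMap {F : Type*} [Field F] (n : ℕ) (θ θ' : F) :
    (Fin (n + 1) ⊕ Fin (n + 1) → F) →ₗ[F] (Fin (n + 1) ⊕ Fin (n + 1) → F) where
  toFun y := Sum.elim
    (Fin.cons (y (Sum.inl 0) + θ * y (Sum.inr 0)) fun i => y (Sum.inl i.succ))
    (Fin.cons (y (Sum.inl 0) + θ' * y (Sum.inr 0)) fun i => y (Sum.inr i.succ))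
  map_add' y y' := by
    ext (i | i) <;> induction i using Fin.cases <;> simp <;> ring
  map_smul' c y := by
    ext (i | i) <;> induction i using Fin.cases <;> simp <;> ring

variable {F : Type*} [Field F] [Fintype F] {p f : ℕ} [Fact p.Prime] {n : ℕ}

set_option maxHeartbeats 1600000 in
theorem graphField_standard (hF : Fintype.card F = p ^ f) (hf : 1 ≤ f) (hn3 : 3 ≤ n)
    (φ γ : MulAut (Cfsg.POmega F (Cfsg.quadFormPlus (n + 1) F))) (σ : F ≃+* F) (hord : orderOf σ = 2)
    (hφ : Cfsg.IsFieldAutPOmegaOf (Cfsg.quadFormPlus (n + 1) F) σ φ)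
    (v : Fin (n + 1) ⊕ Fin (n + 1) → F) (hv : v = Sum.elim (Fin.cons 1 0) (Fin.cons (-1) 0))
    (R : GL (Fin (n + 1) ⊕ Fin (n + 1)) F)
    (hR : (R : Matrix (Fin (n + 1) ⊕ Fin (n + 1)) (Fin (n + 1) ⊕ Fin (n + 1)) F) =
      Cfsg.reflectionMatrix (Cfsg.quadFormPlus (n + 1) F) v)
    (hγ : Cfsg.IsInducedBySemilinearPOmega (Cfsg.quadFormPlus (n + 1) F) R (RingEquiv.refl F) γ)
    (F₀ : Type*) [Field F₀] [Fintype F₀] (hF₀ : Fintype.card F₀ = p ^ (f / 2)) :
    (∃ a₀ b₀ : F₀, (∀ z₁ z₂ : F₀, z₁ ^ 2 + a₀ * z₁ * z₂ + b₀ * z₂ ^ 2 = 0 → z₁ = 0 ∧ z₂ = 0) ∧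
      Nonempty (↥(Cfsg.inndiagPOmegaPlus (n + 1) F ⊓ Subgroup.centralizer {γ * φ}) ≃*
        ↥(Cfsg.inndiagPOmegaMinus n F₀ a₀ b₀))) ∧
    (p = 2 → Cfsg.splitClassCount (Cfsg.inndiagPOmegaPlus (n + 1) F)
        (Cfsg.Inn (Cfsg.POmega F (Cfsg.quadFormPlus (n + 1) F))) (γ * φ) = 1) ∧
    ((p ≠ 2 ∧ Odd (n + 1) ∧ p ^ (f / 2) % 4 = 1) → Cfsg.splitClassCount (Cfsg.inndiagPOmegaPlus (n + 1) F)
        (Cfsg.Inn (Cfsg.POmega F (Cfsg.quadFormPlus (n + 1) F))) (γ * φ) = 4) ∧
    ((p ≠ 2 ∧ ¬ (Odd (n + 1) ∧ p ^ (f / 2) % 4 = 1)) → Cfsg.splitClassCount (Cfsg.inndiagPOmegaPlus (n + 1) F)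
        (Cfsg.Inn (Cfsg.POmega F (Cfsg.quadFormPlus (n + 1) F))) (γ * φ) = 2) := by
  classical
  obtain ⟨hdvd, hcard, j, hj⟩ := exists_subfield_data hF hf σ hord F₀ hF₀
  have hσ2 : ∀ x, σ (σ x) = x := fun x => by
    have h := DFunLike.congr_fun (show σ ^ 2 = 1 by rw [← hord]; exact pow_orderOf_eq_one σ) x
    rwa [pow_two] at h
  have hσ1 : σ ≠ RingEquiv.refl F := fun h => by
    rw [h, show (RingEquiv.refl F) = (1 : F ≃+* F) from rfl, orderOf_one] at hord
    omega
  obtain ⟨θ, hθ⟩ : ∃ θ, σ θ ≠ θ := by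
    by_contra! h
    exact hσ1 (RingEquiv.ext h)
  obtain ⟨a₀, ha⟩ := (hj (θ + σ θ)).1 (by rw [map_add, hσ2, add_comm])
  obtain ⟨b₀, hb⟩ := (hj (θ * σ θ)).1 (by rw [map_mul, hσ2, mul_comm])
  have hab : ∀ z₁ z₂ : F₀, z₁ ^ 2 + a₀ * z₁ * z₂ + b₀ * z₂ ^ 2 = 0 → z₁ = 0 ∧ z₂ = 0 := by
    intro z₁ z₂ h
    have hfix : ∀ z, σ (j z) = j z := fun z => (hj _).2 ⟨z, rfl⟩
    have h' := congrArg j h
    simp only [map_add, map_mul, map_pow, map_zero, ha, hb] at h'
    have hz2 : z₂ = 0 := by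
      by_contra hz
      have hjz : j z₂ ≠ 0 := by simpa using hz
      have hp : (j z₁ + θ * j z₂) * (j z₁ + σ θ * j z₂) = 0 := by linear_combination h'
      refine hθ ?_
      rcases mul_eq_zero.1 hp with e | e
      · have e2 := congrArg σ e
        rw [map_add, map_mul, hfix, hfix, map_zero] at e2
        exact mul_right_cancel₀ hjz (by linear_combination e2 - e)
      · have e2 := congrArg σ e
        rw [map_add, map_mul, hfix, hfix, hσ2, map_zero] at e2
        exact mul_right_cancel₀ hjz (by linear_combination e - e2)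
    refine ⟨?_, hz2⟩
    rw [hz2] at h
    exact pow_eq_zero_iff two_ne_zero |>.1 (by linear_combination h)
  let T := twistMap n θ (σ θ)
  have hTinj : Function.Injective T := by
    refine (injective_iff_map_eq_zero T).2 fun y hy => ?_
    have h1 : y (Sum.inl 0) + θ * y (Sum.inr 0) = 0 := by simpa [T, twistMap] using congrFun hy (Sum.inl 0)
    have h2 : y (Sum.inl 0) + σ θ * y (Sum.inr 0) = 0 := by simpa [T, twistMap] using congrFun hy (Sum.inr 0)
    have hr0 : y (Sum.inr 0) = 0 := mul_left_cancel₀ (sub_ne_zero.2 hθ) (by linear_combination h2 - h1)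
    funext i
    rcases i with i | i <;> induction i using Fin.cases with
    | zero => first | exact hr0 | (rw [hr0, mul_zero, add_zero] at h1; exact h1)
    | succ i => first
      | simpa [T, twistMap] using congrFun hy (Sum.inl i.succ)
      | simpa [T, twistMap] using congrFun hy (Sum.inr i.succ)
  let A : GL (Fin (n + 1) ⊕ Fin (n + 1)) F :=
    (Matrix.mulVec_injective_iff_isUnit.1 (show Function.Injective (LinearMap.toMatrix' T).mulVec by
      intro x y hxy
      exact hTinj (by rw [← LinearMap.toMatrix'_mulVec, ← LinearMap.toMatrix'_mulVec]; exact hxy))).unit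
  have hA : ∀ y, (A : Matrix (Fin (n + 1) ⊕ Fin (n + 1)) (Fin (n + 1) ⊕ Fin (n + 1)) F) *ᵥ y = T y := fun y => by
    rw [IsUnit.unit_spec, LinearMap.toMatrix'_mulVec]
  let d : FormMap (qMinus n F₀ a₀ b₀) (qPlus (n + 1) F) :=
    { j := j, e := twistIndex n, A := A, μ := 1
      spec := fun y => by
        rw [hA, Units.val_one, one_mul]
        simp only [coe_qPlus, coe_qMinus, Cfsg.quadFormPlus, Cfsg.quadFormMinus, Fin.sum_univ_succ, T, twistMap,
          LinearMap.coe_mk, AddHom.coe_mk, Sum.elim_inl, Sum.elim_inr, Fin.cons_zero, Fin.cons_succ,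
          twistIndex, Equiv.coe_fn_symm_mk, map_add, map_mul, map_pow, map_sum, ha, hb]
        ring }
  -- the reflection
  have hRv : ∀ x : Fin (n + 1) ⊕ Fin (n + 1) → F,
      (R : Matrix (Fin (n + 1) ⊕ Fin (n + 1)) (Fin (n + 1) ⊕ Fin (n + 1)) F) *ᵥ x = Sum.elim
      (Fin.cons (x (Sum.inr 0)) fun i => x (Sum.inl i.succ))
      (Fin.cons (x (Sum.inl 0)) fun i => x (Sum.inr i.succ)) := by
    intro x
    have hQv : Cfsg.quadFormPlus (n + 1) F v = -1 := by
      simp [hv, Cfsg.quadFormPlus, Fin.sum_univ_succ]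
    rw [hR, ← coe_qPlus, reflectionMatrix_mulVec, reflMap_apply, coe_qPlus, hQv]
    have hpol : polar (qPlus (n + 1) F) x v = x (Sum.inr 0) - x (Sum.inl 0) := by
      rw [polar_qPlus]
      simp [hv, Fin.sum_univ_succ]
      ring
    rw [← coe_qPlus, hpol, inv_neg, inv_one]
    funext i
    rcases i with i | i <;> induction i using Fin.cases <;> simp [hv]
  have hTσ : ∀ y : Fin (n + 1) ⊕ Fin (n + 1) → F, (∀ i, σ (y i) = y i) →
      (R : Matrix (Fin (n + 1) ⊕ Fin (n + 1)) (Fin (n + 1) ⊕ Fin (n + 1)) F) *ᵥ (fun i => σ (T y i)) = T y := by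
    intro y hy
    rw [hRv]
    funext i
    rcases i with i | i <;> induction i using Fin.cases <;> simp [T, twistMap, hy, hσ2]
  have hAfix : R * semiMap σ d.A = d.A := by
    show R * semiMap σ A = A
    refine Units.ext (Matrix.ext_of_mulVec_single fun l => ?_)
    have hy : ∀ i, σ ((Pi.single l (1 : F) : _ → F) i) = (Pi.single l (1 : F) : _ → F) i := fun i => by
      by_cases h : i = l <;> simp [h]
    have e : ((semiMap σ A : GL (Fin (n + 1) ⊕ Fin (n + 1)) F) : Matrix (Fin (n + 1) ⊕ Fin (n + 1)) (Fin (n + 1) ⊕ Fin (n + 1)) F) *ᵥ Pi.single l 1 =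
        fun i => σ (((A : Matrix (Fin (n + 1) ⊕ Fin (n + 1)) (Fin (n + 1) ⊕ Fin (n + 1)) F) *ᵥ Pi.single l 1) i) := by
      have h1 := semiMap_mulVec σ A (Pi.single l 1)
      rwa [funext hy] at h1
    rw [Units.val_mul, ← Matrix.mulVec_mulVec, e, hA, hTσ _ hy]
  have hcardι : 7 ≤ Fintype.card (Fin (n + 1) ⊕ Fin (n + 1)) := by simp; omega
  have hp : Cfsg.IsSemisimilarityPair (Cfsg.quadFormPlus (n + 1) F) R σ := by
    refine ⟨1, fun x => ?_⟩
    rw [hRv, Units.val_one, one_mul]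
    simp [Cfsg.quadFormPlus, Fin.sum_univ_succ, map_sum, mul_comm (σ (x (Sum.inr 0)))]
  have hz : Cfsg.IsInducedBySemilinearPOmega (Cfsg.quadFormPlus (n + 1) F) R σ (γ * φ) :=
    induced_conj_mul (coe_qPlus (n + 1) F).symm (invariant_qPlus σ (n + 1)) hγ hφ
  by_cases h2 : (2 : F) = 0
  · have h20 : (2 : F₀) = 0 := j.injective (by rw [map_ofNat, map_zero]; exact h2)
    obtain ⟨hC, hS⟩ := transfer_full (coe_qPlus (n + 1) F).symm (coe_qMinus n F₀ a₀ b₀).symm
      (qPlus_nondeg (n + 1)) hcardι (qMinus_nondeg hab n) d hp (γ * φ) hz hj hAfix (innS _) (innS _)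
      (psi_mem_innS_two h20 (qMinus_nondeg hab n) (by simp; omega) h2 (qPlus_nondeg (n + 1)) d) le_rfl
      (Cfsg.inndiagPOmegaPlus (n + 1) F)
      (by rw [inndiagPlus_two h2 (by omega), map_innS]; exact cast_heq _ _)
      (Cfsg.inndiagPOmegaMinus n F₀ a₀ b₀)
      (by rw [inndiagMinus_two h20 hn3 hab, map_innS]; exact cast_heq _ _)
    have hp2 : p = 2 := (two_eq_zero_iff hF hf).1 h2
    refine ⟨⟨a₀, b₀, hab, hC⟩, fun _ => ?_, fun h => absurd hp2 h.1, fun h => absurd hp2 h.1⟩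
    rw [hS, Subgroup.relIndex_eq_one]
    exact le_sup_left
  · have hp2 : p ≠ 2 := fun h => h2 ((two_eq_zero_iff hF hf).2 h)
    have hpo : Odd p := (Fact.out : p.Prime).odd_of_ne_two hp2
    have hodd : Odd (Fintype.card F) := by rw [hF]; exact hpo.pow
    have hodd₀ : Odd (Fintype.card F₀) := by rw [hF₀]; exact hpo.pow
    have h20 : (2 : F₀) ≠ 0 := two_ne_zero_of_odd rfl hodd₀
    set H := evenForm_qPlus (F := F) hodd (m := n + 1) (by omega)
    set H₀ := evenForm_qMinus (F := F₀) hodd₀ hn3 hab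
    obtain ⟨hC, hS⟩ := transfer_full (coe_qPlus (n + 1) F).symm (coe_qMinus n F₀ a₀ b₀).symm
      (qPlus_nondeg (n + 1)) hcardι (qMinus_nondeg hab n) d hp (γ * φ) hz hj hAfix (sgnHom H).ker
      (sgnHom H₀).ker (fun h => sgn_psi_iff d H H₀ h) (innS_le_sgn_ker H)
      (Cfsg.inndiagPOmegaPlus (n + 1) F) (by rw [inndiagPlus_eq hodd (by omega)]; exact cast_heq _ _)
      (Cfsg.inndiagPOmegaMinus n F₀ a₀ b₀)
      (by rw [inndiagMinus_eq hodd₀ hn3 hab]; exact cast_heq _ _)
    refine ⟨⟨a₀, b₀, hab, hC⟩, fun h => absurd h hp2, ?_⟩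
    obtain ⟨α, hα⟩ := FiniteField.exists_nonsquare (F := F₀)
      (fun h => h20 (by have := ringChar.eq_iff.1 h; exact CharTwo.two_eq_zero))
    have hα0 : α ≠ 0 := by rintro rfl; exact hα IsSquare.zero
    have hjα0 : j α ≠ 0 := by simpa using hα0
    have hσj : ∀ a, σ (j a) = j a := fun a => (hj _).2 ⟨a, rfl⟩
    obtain ⟨w, hw0, hw⟩ := Descent.exists_fieldNorm_eq σ hord two_pos hjα0 (hσj α)
    have hwN : w * σ w = j α := by
      rw [← hw, Descent.fieldNorm, Finset.prod_range_succ, Finset.prod_range_succ, Finset.prod_range_zero,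
        one_mul, pow_zero, pow_one]
      rfl
    -- the similarity fixed by the semilinear map
    let u : Fin (n + 1) ⊕ Fin (n + 1) → F := Sum.elim (Fin.cons w fun _ => 1) (Fin.cons (σ w) fun _ => j α)
    have hu0 : ∀ i, u i ≠ 0 := by
      intro i
      rcases i with i | i <;> induction i using Fin.cases <;> simp [u, hw0, hα0]
    have hgdet : (Matrix.diagonal u).det = j α ^ (n + 1) := by
      simp [u, Matrix.det_diagonal, Fintype.prod_sum_type, Fin.prod_univ_succ, pow_succ]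
      linear_combination (j α) ^ n * hwN
    have hgsim : ∀ x, qPlus (n + 1) F (Matrix.diagonal u *ᵥ x) = j α * qPlus (n + 1) F x := fun x => by
      simp only [coe_qPlus, Cfsg.quadFormPlus, Matrix.mulVec_diagonal, Fin.sum_univ_succ, u, Sum.elim_inl,
        Sum.elim_inr, Fin.cons_zero, Fin.cons_succ, mul_add, Finset.mul_sum]
      refine congrArg₂ (· + ·) (by linear_combination (x (Sum.inl 0) * x (Sum.inr 0)) * hwN)
        (Finset.sum_congr rfl fun i _ => by ring)
    obtain ⟨g, hg⟩ := exists_sim_of_matrix (Matrix.diagonal u) (by rw [hgdet]; exact pow_ne_zero _ hjα0)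
      (Units.mk0 (j α) hjα0) hgsim
    have hgμ : simMult g = Units.mk0 (j α) hjα0 := simMult_eq H _ _ (by rw [hg]; exact hgsim)
    have hgs : sgnHom H g = 1 := by rw [sgnHom_eq_one_iff, hg, hgdet, hgμ]; rfl
    have hgfix : R * semiMap σ (g : GL (Fin (n + 1) ⊕ Fin (n + 1)) F) = (g : GL (Fin (n + 1) ⊕ Fin (n + 1)) F) * R := by
      refine Units.ext (Matrix.ext_of_mulVec_single fun l => ?_)
      generalize (Pi.single l (1 : F) : Fin (n + 1) ⊕ Fin (n + 1) → F) = x
      rw [Units.val_mul, Units.val_mul, ← Matrix.mulVec_mulVec, ← Matrix.mulVec_mulVec, coe_semiMap,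
        show ((g : GL (Fin (n + 1) ⊕ Fin (n + 1)) F) : Matrix (Fin (n + 1) ⊕ Fin (n + 1)) (Fin (n + 1) ⊕ Fin (n + 1)) F) = Matrix.diagonal u from hg, Matrix.diagonal_map (map_zero σ), hRv, hRv]
      funext i
      rcases i with i | i <;> induction i using Fin.cases <;>
        simp [Matrix.mulVec_diagonal, u, hσ2, hσj]
    have hp' : Cfsg.IsSemisimilarityPair (⇑(qPlus (n + 1) F)) R σ := by rw [coe_qPlus]; exact hp
    have hdesc : ∃ h, g⁻¹ * d.psi h ∈ (conjAut (qPlus (n + 1) F)).ker := by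
      have hzT : ∃ z : MulAut (Cfsg.POmega F (⇑(qPlus (n + 1) F))),
          Cfsg.IsInducedBySemilinearPOmega (⇑(qPlus (n + 1) F)) R σ z := by
        rw [coe_qPlus]
        exact ⟨γ * φ, hz⟩
      obtain ⟨z, hz'⟩ := hzT
      refine exists_descent (qPlus_nondeg (n + 1)) hcardι (qMinus_nondeg hab n) d hp' hz' hj hAfix g ?_
      refine (commute_iff (qPlus_nondeg (n + 1)) hcardι hp' hz' g).2 ⟨1, ?_⟩
      rw [Units.val_one, one_smul, hgfix, mul_inv_cancel_right]
    obtain ⟨h, hh⟩ := hdesc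
    obtain ⟨c, hc⟩ := (mem_ker_iff (qPlus_nondeg (n + 1)) hcardι _).1 hh
    have hψh : simMat (d.psi h) = (c : F) • simMat g := by
      have e : simMat g * simMat (g⁻¹ * d.psi h) = simMat (d.psi h) := by
        show simMat (g * (g⁻¹ * d.psi h)) = _
        rw [mul_inv_cancel_left]
      rw [← e, hc, Matrix.mul_smul, mul_one]
    have hcfix : σ (c : F) = c := by
      have e : R * semiMap σ (d.psi h : GL (Fin (n + 1) ⊕ Fin (n + 1)) F) = (d.psi h : GL (Fin (n + 1) ⊕ Fin (n + 1)) F) * R := by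
        conv_rhs => rw [← psi_fixed d hj hAfix h]
        group
      have e1 := congrArg Units.val e
      have e2 := congrArg Units.val hgfix
      simp only [Units.val_mul, coe_semiMap] at e1 e2
      rw [show ((d.psi h : GL (Fin (n + 1) ⊕ Fin (n + 1)) F) : Matrix (Fin (n + 1) ⊕ Fin (n + 1)) (Fin (n + 1) ⊕ Fin (n + 1)) F) = (c : F) • simMat g from hψh,
        Matrix.map_smul' _ _ _ (map_mul σ), Matrix.mul_smul, e2, Matrix.smul_mul] at e1
      have hne : simMat g * (R : Matrix (Fin (n + 1) ⊕ Fin (n + 1)) (Fin (n + 1) ⊕ Fin (n + 1)) F) ≠ 0 := (g.1 * R).ne_zero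
      exact smul_left_injective _ hne e1
    have hh1 : sgnHom H₀ h = 1 := (sgn_psi_iff d H H₀ h).1 (by
      rw [show d.psi h = g * (g⁻¹ * d.psi h) by group, map_mul, hgs, (scalar_invariants H hh).2, one_mul])
    have hhm : ¬ IsSquare ((simMult h : F₀ˣ) : F₀) := by
      obtain ⟨c₀, hc₀⟩ := (hj (c : F)).1 hcfix
      intro hs
      have hmul : j (simMult h : F₀) = (c : F) * c * j α := by
        have e : simMult (d.psi h) = c * c * simMult g := simMult_eq H _ _ fun x => by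
          rw [hψh, Matrix.smul_mulVec, apply_smul, simMult_spec]
          simp [mul_assoc]
        have e' := congrArg Units.val ((simMult_psi d H h).symm.trans e)
        rw [hgμ] at e'
        exact e'
      rw [← hc₀, ← map_mul, ← map_mul] at hmul
      obtain ⟨s, hs⟩ := hs
      have hc00 : c₀ ≠ 0 := fun h0 => c.ne_zero (by rw [← hc₀, h0, map_zero])
      refine hα ⟨s / c₀, ?_⟩
      rw [div_mul_div_comm, ← hs, j.injective hmul]
      field_simp
    have hsq := isSquare_map_of_two j hcard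
    obtain ⟨β, hβ⟩ := hsq α
    have hβ0 : β ≠ 0 := fun h => hjα0 (by rw [hβ, h, mul_zero])
    have hβ1 : β⁻¹ ≠ 1 := fun h => by
      rw [inv_eq_one] at h
      rw [h, mul_one, ← map_one j] at hβ
      exact hα (by rw [j.injective hβ]; exact IsSquare.one)
    have hσβ : σ β ≠ β := fun e => by
      obtain ⟨s, hs⟩ := (hj β).1 e
      exact hα ⟨s, j.injective (by rw [map_mul, hs, hβ])⟩
    let t : Fin (n + 1) → F := Fin.cons (w / β) fun _ => β⁻¹
    have ht0 : ∀ i, t i ≠ 0 := by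
      intro i; induction i using Fin.cases <;> simp [t, hw0, hβ0]
    have ht1 : ∀ i, t i ≠ 1 := by
      intro i
      induction i using Fin.cases with
      | zero =>
        simp only [t, Fin.cons_zero]
        intro e
        rw [div_eq_one_iff_eq hβ0] at e
        rw [e, hβ] at hwN
        exact hσβ (mul_left_cancel₀ hβ0 hwN)
      | succ i => simpa [t] using hβ1
    let M : Matrix (Fin (n + 1) ⊕ Fin (n + 1)) (Fin (n + 1) ⊕ Fin (n + 1)) F :=
      Matrix.diagonal (Sum.elim t fun i => (t i)⁻¹)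
    have hMdet : M.det ≠ 0 := by
      simp only [M, Matrix.det_diagonal, Finset.prod_ne_zero_iff]
      rintro (i | i) - <;> simp [ht0]
    let eg : GL (Fin (n + 1) ⊕ Fin (n + 1)) F := Matrix.GeneralLinearGroup.mkOfDetNeZero M hMdet
    have hegm : eg ∈ Cfsg.isometryGroup F (⇑(qPlus (n + 1) F)) := fun x _ => by
      show qPlus (n + 1) F (M *ᵥ x) = _
      simp only [coe_qPlus, Cfsg.quadFormPlus, M, Matrix.mulVec_diagonal, Sum.elim_inl, Sum.elim_inr]
      exact Finset.sum_congr rfl fun i _ => by have := ht0 i; field_simp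
    have hM : M = β⁻¹ • simMat g := by
      rw [hg]
      ext x y
      by_cases hxy : x = y
      · subst hxy
        rcases x with i | i <;> induction i using Fin.cases <;>
          simp [M, u, t, hβ, hβ0, div_eq_inv_mul]
        rw [eq_comm, ← sub_eq_zero]
        field_simp
        linear_combination hwN.trans hβ
      · simp [M, hxy]
    have he : (d.psi h)⁻¹ * Subgroup.inclusion (isometry_le_sim _) ⟨eg, hegm⟩ ∈
        (conjAut (qPlus (n + 1) F)).ker := by
      refine (mem_ker_iff (qPlus_nondeg (n + 1)) hcardι _).2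
        ⟨Units.mk0 (β⁻¹ * (c : F)⁻¹) (mul_ne_zero (inv_ne_zero hβ0) (inv_ne_zero c.ne_zero)), ?_⟩
      have hM' : M = (β⁻¹ * (c : F)⁻¹) • simMat (d.psi h) := by
        rw [hM, hψh, smul_smul, mul_assoc, inv_mul_cancel₀ c.ne_zero, mul_one]
      show (((d.psi h : GL (Fin (n + 1) ⊕ Fin (n + 1)) F))⁻¹ : GL (Fin (n + 1) ⊕ Fin (n + 1)) F).1 * M = _
      rw [hM', Matrix.mul_smul, Units.inv_mul]
      rfl
    obtain ⟨δ, hδm, hδs, -, -⟩ := exists_delta_plus (F := F) hodd (m := n + 1) (by omega)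
    obtain ⟨h4, h2'⟩ := relIndex_two H d H₀ (fun a _ => by simpa [d] using hsq a)
      ((negMem_qPlus hodd (m := n + 1) (by omega)).2 fun ⟨_, h34⟩ => by
        rw [hcard, Nat.pow_mod] at h34
        obtain ⟨s, hs⟩ := hodd₀
        have : Fintype.card F₀ % 4 = 1 ∨ Fintype.card F₀ % 4 = 3 := by omega
        rcases this with e | e <;> rw [e] at h34 <;> norm_num at h34)
      δ hδm hδs h hhm hh1 ⟨eg, hegm⟩ he
    have hwns : ¬ IsSquare w := by
      rintro ⟨s, hs⟩
      obtain ⟨N, hN⟩ := (hj (s * σ s)).1 (by rw [map_mul, hσ2, mul_comm])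
      refine hα ⟨N, j.injective ?_⟩
      rw [map_mul, hN, ← hwN, hs, map_mul]
      ring
    have hspin : spinO H ⟨eg, hegm⟩ = 1 ↔ (Odd (n + 1) ∧ p ^ (f / 2) % 4 = 1) := by
      have hprod : ∏ i, t i = (β⁻¹) ^ (n + 1) * w := by
        simp [t, Fin.prod_univ_succ, pow_succ]
        ring
      rw [spinO_torus H t ht0 ht1 ⟨eg, hegm⟩ rfl,
        sqc_eq_one_iff (Finset.prod_ne_zero_iff.2 fun i _ => ht0 i), hprod,
        isSquare_mul_iff_not H.two_ne (pow_ne_zero _ (inv_ne_zero hβ0)) hwns,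
        isSquare_pow_iff (inv_ne_zero hβ0), isSquare_inv, sqrt_isSquare_iff j hcard h20 hα hβ.symm,
        ← Nat.not_even_iff_odd, hF₀]
      have : p ^ (f / 2) % 4 = 1 ∨ p ^ (f / 2) % 4 = 3 := by
        obtain ⟨s, hs⟩ := hpo.pow (n := f / 2)
        omega
      rcases this with e | e <;> simp [e]
    rw [hS]
    exact ⟨fun h => h4 (hspin.2 h.2), fun h => h2' fun hs => h.2 (hspin.1 hs)⟩

end CfsgLib.Known.OrthFieldCent
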