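import Cfsg.Agent.Lib.Known.OrthFieldCent.Descent
import Cfsg.Agent.Lib.Known.OrthFieldCent.Invariants

/-!
# In characteristic two the inner-diagonal automorphisms of orthogonal groups are inner
-/

set_option autoImplicit false
set_option linter.unusedSectionVars false

open Matrix

namespace CfsgLib.Known.OrthFieldCent

open CfsgLib.Classical.Quad
open QuadraticMap (polar polarBilin)

universe u

variable {F : Type u} [Field F] [Finite F] {ι : Type} [Fintype ι] [DecidableEq ι]
  {Q : QuadraticForm F (ι → F)} (h2 : (2 : F) = 0) (hQ : (polarBilin Q).Nondegenerate)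
  (hn : 7 ≤ Fintype.card ι)
include h2 hQ hn

/-- Every similarity is a scalar times an isometry. -/
theorem sim_decomp (g : simGrp Q) : ∃ (z : simGrp Q) (x : ↥(Cfsg.isometryGroup F (⇑Q))),
    z ∈ (conjAut Q).ker ∧ g = z * Subgroup.inclusion (isometry_le_sim Q) x := by
  have : CharP F 2 := CharTwo.of_one_ne_zero_of_two_eq_zero one_ne_zero h2
  obtain ⟨c, hc⟩ := FiniteField.isSquare_of_char_two (ringChar.eq_iff.2 this) (simMult g : F)
  have hc0 : c ≠ 0 := fun h => (simMult g).ne_zero (by rw [hc, h, mul_zero])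
  set z : GL ι F := Matrix.GeneralLinearGroup.scalar ι (Units.mk0 c hc0) with hz
  have hzv : (z : Matrix ι ι F) = c • 1 := by
    ext i l
    by_cases h : i = l <;> simp [hz, h]
  have hzm : z ∈ simGrp Q := ⟨simMult g, fun v => by
    rw [hzv, Matrix.smul_mulVec, Matrix.one_mulVec, apply_smul, hc]⟩
  have hzk : (⟨z, hzm⟩ : simGrp Q) ∈ (conjAut Q).ker :=
    (mem_ker_iff hQ hn _).2 ⟨Units.mk0 c hc0, hzv⟩
  have hx : (z⁻¹ * (g : GL ι F)) ∈ Cfsg.isometryGroup F (⇑Q) := fun v _ => by
    show Q (((z⁻¹ * (g : GL ι F) : GL ι F) : Matrix ι ι F) *ᵥ v) = Q v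
    set w := ((z⁻¹ * (g : GL ι F) : GL ι F) : Matrix ι ι F) *ᵥ v with hw
    have h1 : (z : Matrix ι ι F) *ᵥ w = simMat g *ᵥ v := by
      rw [hw, Matrix.mulVec_mulVec, ← Units.val_mul, mul_inv_cancel_left]
    have h3 := congrArg (⇑Q) h1
    rw [hzv, Matrix.smul_mulVec, Matrix.one_mulVec, apply_smul, simMult_spec, hc] at h3
    exact mul_left_cancel₀ (mul_ne_zero hc0 hc0) h3
  exact ⟨⟨z, hzm⟩, ⟨_, hx⟩, hzk, Subtype.ext (mul_inv_cancel_left z (g : GL ι F)).symm⟩

theorem incl_mem_innS_two (x : ↥(Cfsg.isometryGroup F (⇑Q))) :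
    Subgroup.inclusion (isometry_le_sim Q) x ∈ innS Q ↔ (invs hQ (by omega) x).1 = 1 := by
  have hsub : Subsingleton (SqClass F) :=
    (Nat.card_eq_one_iff_unique.1 (card_sqClass_of_two_eq_zero h2)).1
  have hΩ : x ∈ Cfsg.Omega F (⇑Q) ↔ (invs hQ (by omega) x).1 = 1 := by
    rw [← invs_eq_one_iff hQ (by omega) x, Prod.ext_iff]
    exact ⟨fun h => h.1, fun h => ⟨h, Subsingleton.elim _ _⟩⟩
  rw [← hΩ]
  refine ⟨fun hx => ?_, omega_mem_innS⟩
  rw [innS_eq, Subgroup.mem_sup_of_normal_right] at hx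
  obtain ⟨y, ⟨ω, hω, hy⟩, z, hz, e⟩ := hx
  obtain ⟨c, hc⟩ := (mem_ker_iff hQ hn z).1 hz
  have e' : (y : GL ι F) * (z : GL ι F) = x := congrArg Subtype.val e
  have hxz : ((ω⁻¹ * x : ↥(Cfsg.isometryGroup F (⇑Q))) : GL ι F) = (z : GL ι F) := by
    rw [Subgroup.coe_mul, Subgroup.coe_inv, ← e', show ((ω : GL ι F)) = (y : GL ι F) from hy,
      inv_mul_cancel_left]
  haveI : Nontrivial (ι → F) :=
    Module.nontrivial_of_finrank_pos (R := F) (by rw [Module.finrank_pi]; omega)
  obtain ⟨v, hv⟩ := exists_apply_ne_zero hQ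
  have hcc : (c : F) * c = 1 := mul_right_cancel₀ hv (by
    have h1 := (ω⁻¹ * x).2 v v
    change Q (((((ω⁻¹ * x : ↥(Cfsg.isometryGroup F (⇑Q))) : GL ι F)) : Matrix ι ι F) *ᵥ v) = Q v at h1
    rw [hxz, show ((z : GL ι F) : Matrix ι ι F) = (c : F) • 1 from hc, Matrix.smul_mulVec,
      Matrix.one_mulVec, apply_smul] at h1
    rw [h1, one_mul])
  have hc1 : (c : F) = 1 := by
    rcases mul_self_eq_one_iff.1 hcc with h | h
    · exact h
    · rw [h]; linear_combination -h2
  have : ω⁻¹ * x = 1 := Subtype.ext (Units.ext (by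
    rw [hxz, show ((z : GL ι F) : Matrix ι ι F) = (c : F) • 1 from hc, hc1, one_smul]; rfl))
  rwa [inv_mul_eq_one.1 this] at hω

variable {L : Type*} [Field L] [Finite L] {κ : Type} [Fintype κ] [DecidableEq κ]
  {Q' : QuadraticForm L (κ → L)}

/-- The inner part is unchanged by a semilinear similarity. -/
theorem psi_mem_innS_two (h2L : (2 : L) = 0) (hQ' : (polarBilin Q').Nondegenerate)
    (d : FormMap Q Q') (g : simGrp Q) : d.psi g ∈ innS Q' ↔ g ∈ innS Q := by
  have hn' : 7 ≤ Fintype.card κ := by rw [← Fintype.card_congr d.e]; exact hn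
  obtain ⟨z, x, hz, rfl⟩ := sim_decomp h2 hQ hn g
  have hzi : z ∈ innS Q := by rw [innS_eq]; exact Subgroup.mem_sup_right hz
  have hzi' : d.psi z ∈ innS Q' := by
    rw [innS_eq]
    refine Subgroup.mem_sup_right ?_
    rw [ker_conjAut hQ' hn']
    rw [ker_conjAut hQ hn] at hz
    haveI : Nonempty ι := Fintype.card_pos_iff.1 (by omega)
    exact (d.base_scalar_iff _).2 hz
  rw [map_mul, Subgroup.mul_mem_cancel_left _ hzi', Subgroup.mul_mem_cancel_left _ hzi, d.psi_incl,
    incl_mem_innS_two h2L hQ' hn', incl_mem_innS_two h2 hQ hn, parity_isoMap hQ' (by omega) hQ d]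

omit h2 hn in
/-- The parity of a similarity at a maximal singular subspace is multiplicative. -/
theorem exists_parity {k : ℕ} (hV : Fintype.card ι = 2 * k) {T : Submodule F (ι → F)} (hT : IsSing Q k T) :
    ∃ π : simGrp Q →* Multiplicative (ZMod 2),
      (∀ g, Cfsg.PreservesSingularClasses (⇑Q) (simMat g) ↔ π g = 1) ∧
      (∀ g, Cfsg.imageSubmodule (simMat g) T = T → π g = 1) ∧
      ∀ (v : ι → F) (hv : Q v ≠ 0),
        π (Subgroup.inclusion (isometry_le_sim Q) (rO hv)) = Multiplicative.ofAdd 1 := by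
  have hV' : Module.finrank F (ι → F) = 2 * k := by rw [Module.finrank_pi]; exact hV
  let π : simGrp Q →* Multiplicative (ZMod 2) := MonoidHom.mk' (fun g => Multiplicative.ofAdd
    ((k - Module.finrank F ↥(T ⊓ Cfsg.imageSubmodule (simMat g) T) : ℕ) : ZMod 2)) fun g h => by
      have hg := isSing_image hT g
      have hgh := isSing_image (isSing_image hT h) g
      have h3 := even_three hQ hV' hT hg hgh
      rw [finrank_image_inf] at h3
      have h4 := ZMod.natCast_eq_zero_iff_even.2 h3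
      push_cast at h4
      rw [← ofAdd_add, image_mul]
      congr 1
      generalize ((k - Module.finrank F ↥(T ⊓ Cfsg.imageSubmodule (simMat g) T) : ℕ) : ZMod 2) = a at *
      generalize ((k - Module.finrank F ↥(T ⊓ Cfsg.imageSubmodule (simMat h) T) : ℕ) : ZMod 2) = b at *
      generalize ((k - Module.finrank F ↥(T ⊓ Cfsg.imageSubmodule (simMat g)
        (Cfsg.imageSubmodule (simMat h) T)) : ℕ) : ZMod 2) = c at *
      revert a b c
      decide
  have hπ : ∀ g, π g = 1 ↔ Even (k - Module.finrank F ↥(T ⊓ Cfsg.imageSubmodule (simMat g) T)) := by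
    intro g
    show Multiplicative.ofAdd _ = 1 ↔ _
    rw [ofAdd_eq_one, ZMod.natCast_eq_zero_iff_even]
  have hsing : ∀ U : Submodule F (ι → F), Cfsg.IsMaxTotallySingular (⇑Q) U → IsSing Q k U := by
    intro U hU
    have hle : Module.finrank F U ≤ k := by
      have := two_mul_finrank_le hQ (W := U) hU.1
      rw [hV'] at this
      omega
    exact ⟨by rw [finrank_eq_of_maximal hQ hU.1 hT.2 (fun W h1 h2 => hU.2 W h2 h1)
      (by rw [hT.1]; exact hle), hT.1], hU.1⟩
  have hmax : Cfsg.IsMaxTotallySingular (⇑Q) T := by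
    refine ⟨hT.2, fun W hW hle => ?_⟩
    have h := two_mul_finrank_le hQ (W := W) hW
    rw [hV'] at h
    exact (Submodule.eq_of_le_of_finrank_le hle (by rw [hT.1]; omega)).symm
  refine ⟨π, fun g => ?_, fun g hg => ?_, fun v hv => ?_⟩
  · rw [hπ]
    constructor
    · intro h
      have h1 := h T hmax
      rwa [Cfsg.SameParityClass, hT.1] at h1
    · intro h U hU
      have hU' := hsing U hU
      have h1 := even_three hQ hV' hU' hT (isSing_image hT g)
      have h3 := even_three hQ hV' hU' (isSing_image hT g) (isSing_image hU' g)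
      rw [finrank_image_inf, inf_comm T U] at h3
      rw [Cfsg.SameParityClass, hU'.1]
      rw [Nat.even_iff] at h h1 h3 ⊢
      omega
  · rw [hπ, hg, inf_idem, hT.1]
    simp
  · refine (zmod_two_mult_cases _).resolve_left fun h => ?_
    rw [hπ] at h
    let φ : T →ₗ[F] F := ((polarBilin Q) v).comp T.subtype
    obtain ⟨w₀, hw₀⟩ : ∃ w : T, φ w ≠ 0 := by
      by_contra! hc
      refine hv (hT.2 v (hT.mem_of_polar hQ hV' fun w hw => ?_))
      rw [QuadraticMap.polar_comm]
      exact hc ⟨w, hw⟩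
    have hk : Module.finrank F ((LinearMap.ker φ).map T.subtype) + 1 = k := by
      rw [Submodule.finrank_map_subtype_eq, ← hT.1, ← LinearMap.finrank_range_add_finrank_ker φ,
        LinearMap.range_eq_top.2 (fun c => ⟨(c / φ w₀) • w₀, by simp [div_mul_cancel₀ _ hw₀]⟩),
        finrank_top, Module.finrank_self]
      ring
    have heq : T ⊓ Cfsg.imageSubmodule (simMat (Subgroup.inclusion (isometry_le_sim Q) (rO hv))) T =
        (LinearMap.ker φ).map T.subtype := by
      ext y
      constructor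
      · rintro ⟨hy, x, hx, rfl⟩
        have e : Matrix.toLin' (simMat (Subgroup.inclusion (isometry_le_sim Q) (rO hv))) x =
            x - ((Q v)⁻¹ * polar Q x v) • v := by
          rw [Matrix.toLin'_apply]
          exact (rO_mulVec hv x).trans (reflMap_apply v x)
        rw [e] at hy ⊢
        have hc : (Q v)⁻¹ * polar Q x v = 0 := by
          by_contra hc
          refine hv (hT.2 v ?_)
          have := T.smul_mem ((Q v)⁻¹ * polar Q x v)⁻¹ (T.sub_mem hx hy)
          rwa [sub_sub_cancel, inv_smul_smul₀ hc] at this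
        refine ⟨⟨x, hx⟩, ?_, by simp [hc]⟩
        show polar Q v x = 0
        rw [QuadraticMap.polar_comm]
        exact (mul_eq_zero.1 hc).resolve_left (inv_ne_zero hv)
      · rintro ⟨x, hx, rfl⟩
        refine ⟨x.2, x, x.2, ?_⟩
        rw [Matrix.toLin'_apply]
        refine (rO_mulVec hv _).trans (reflMap_perp ?_)
        rw [QuadraticMap.polar_comm]
        exact hx
    rw [heq, show k - Module.finrank F ((LinearMap.ker φ).map T.subtype) = 1 by omega] at h
    exact Nat.not_even_one h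

/-- Preserving the classes of singular subspaces over an extension is being inner. -/
theorem preserves_iff_two (h2L : (2 : L) = 0) (hQ' : (polarBilin Q').Nondegenerate) {k : ℕ}
    (hV : Fintype.card κ = 2 * k) {T : Submodule L (κ → L)} (hT : IsSing Q' k T) (d : FormMap Q Q')
    (g : simGrp Q) : Cfsg.PreservesSingularClasses (⇑Q') (simMat (d.psi g)) ↔ g ∈ innS Q := by
  have hn' : 7 ≤ Fintype.card κ := by rw [← Fintype.card_congr d.e]; exact hn
  obtain ⟨π, hπ, hfix, hrefl⟩ := exists_parity hQ' hV hT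
  obtain ⟨z, x, hz, rfl⟩ := sim_decomp h2 hQ hn g
  have hzi : z ∈ innS Q := by rw [innS_eq]; exact Subgroup.mem_sup_right hz
  have hzπ : π (d.psi z) = 1 := by
    obtain ⟨c, hc⟩ := (mem_ker_iff hQ hn z).1 hz
    haveI : Nonempty ι := Fintype.card_pos_iff.1 (by omega)
    obtain ⟨c', hc'⟩ := (Cfsg.Geo.mem_scalars_iff _).1 ((d.base_scalar_iff _).2
      ((Cfsg.Geo.mem_scalars_iff (z : GL ι F)).2 ⟨c, hc⟩))
    refine hfix _ ?_
    rw [Cfsg.imageSubmodule, show simMat (d.psi z) = (c' : L) • 1 from hc', map_smul, Matrix.toLin'_one,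
      Submodule.map_smul _ _ _ c'.ne_zero, Submodule.map_id]
  rw [hπ, map_mul, map_mul, hzπ, one_mul, Subgroup.mul_mem_cancel_left _ hzi,
    incl_mem_innS_two h2 hQ hn, d.psi_incl]
  have h := iso_hom_ext hQ (by omega) ((π.comp (Subgroup.inclusion (isometry_le_sim Q'))).comp d.isoMap)
    ((MonoidHom.fst _ _).comp (invs hQ (by omega))) fun v hv => by
      simp only [MonoidHom.coe_comp, Function.comp_apply, d.isoMap_rO, invs_rO, MonoidHom.coe_fst]
      exact hrefl _ _
  have h1 := DFunLike.congr_fun h x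
  simp only [MonoidHom.coe_comp, Function.comp_apply, MonoidHom.coe_fst] at h1
  rw [h1]

end CfsgLib.Known.OrthFieldCent
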