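import Cfsg.Agent.Lib.Known.OrthFieldCent.CharTwo

/-!
# The plus and minus type inner-diagonal groups in characteristic two
-/

set_option autoImplicit false
set_option linter.unusedSectionVars false

open Matrix

namespace CfsgLib.Known.OrthFieldCent

open CfsgLib.Classical.Quad
open QuadraticMap (polar polarBilin)

universe u

variable {F : Type u} [Field F] [Finite F]

/-- A root, in a quadratic extension, of `T² + a T + b`. -/
theorem exists_root_quadratic {a b : F}
    (hab : ∀ z₁ z₂ : F, z₁ ^ 2 + a * z₁ * z₂ + b * z₂ ^ 2 = 0 → z₁ = 0 ∧ z₂ = 0)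
    (K : Type*) [Field K] [Algebra F K] (hK : Module.finrank F K = 2) :
    ∃ r : K, r ^ 2 + algebraMap F K a * r + algebraMap F K b = 0 := by
  classical
  let f : Polynomial F := Polynomial.X ^ 2 + Polynomial.C a * Polynomial.X + Polynomial.C b
  have hmon : f.Monic := by unfold f; monicity!
  have hdeg : f.natDegree = 2 := by unfold f; compute_degree!
  have hirr : Irreducible f := by
    rw [Polynomial.irreducible_iff_roots_eq_zero_of_degree_le_three (by omega) (by omega),
      Multiset.eq_zero_iff_forall_notMem]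
    intro r hr
    have h := (Polynomial.mem_roots hmon.ne_zero).1 hr
    simp [Polynomial.IsRoot, f] at h
    exact one_ne_zero (hab r 1 (by linear_combination h)).2
  haveI : Fact (Irreducible f) := ⟨hirr⟩
  haveI : Module.Finite F K := Module.finite_of_finrank_pos (by omega)
  haveI : Finite K := Module.finite_of_finite F
  obtain ⟨φ⟩ := FiniteField.nonempty_algHom_of_finrank_dvd (F := F) (K := AdjoinRoot f) (L := K) (by
    rw [(AdjoinRoot.powerBasis hmon.ne_zero).finrank, AdjoinRoot.powerBasis_dim, hdeg, hK])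
  refine ⟨φ (AdjoinRoot.root f), ?_⟩
  have h0 : Polynomial.aeval (φ (AdjoinRoot.root f)) f = 0 := by
    rw [Polynomial.aeval_algHom_apply, AdjoinRoot.aeval_eq, AdjoinRoot.mk_self, map_zero]
  simp only [f, map_add, map_mul, map_pow, Polynomial.aeval_X, Polynomial.aeval_C] at h0
  exact h0

theorem exists_quadratic_ext {a b : F}
    (hab : ∀ z₁ z₂ : F, z₁ ^ 2 + a * z₁ * z₂ + b * z₂ ^ 2 = 0 → z₁ = 0 ∧ z₂ = 0) :
    ∃ (K : Type u) (_ : Field K) (_ : Algebra F K), Module.finrank F K = 2 := by
  classical
  let f : Polynomial F := Polynomial.X ^ 2 + Polynomial.C a * Polynomial.X + Polynomial.C b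
  have hmon : f.Monic := by unfold f; monicity!
  have hdeg : f.natDegree = 2 := by unfold f; compute_degree!
  have hirr : Irreducible f := by
    rw [Polynomial.irreducible_iff_roots_eq_zero_of_degree_le_three (by omega) (by omega),
      Multiset.eq_zero_iff_forall_notMem]
    intro r hr
    have h := (Polynomial.mem_roots hmon.ne_zero).1 hr
    simp [Polynomial.IsRoot, f] at h
    exact one_ne_zero (hab r 1 (by linear_combination h)).2
  haveI : Fact (Irreducible f) := ⟨hirr⟩
  exact ⟨AdjoinRoot f, inferInstance, inferInstance, by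
    rw [(AdjoinRoot.powerBasis hmon.ne_zero).finrank, AdjoinRoot.powerBasis_dim, hdeg]⟩

/-- A maximal singular subspace of the minus type form where the binary part is isotropic. -/
theorem exists_sing_qMinus {K : Type*} [Field K] {A B r : K} (hr : r ^ 2 + A * r + B = 0) (m : ℕ) :
    ∃ T, IsSing (qMinus m K A B) (m + 1) T := by
  let L : ((Fin m → K) × K) →ₗ[K] ((Fin m ⊕ Fin m) ⊕ Fin 2 → K) :=
    { toFun := fun w => Sum.elim (Sum.elim w.1 0) ![r * w.2, w.2]
      map_add' := fun x y => by
        ext i
        rcases i with (i | i) | i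
        · simp
        · simp
        · fin_cases i <;> simp [mul_add]
      map_smul' := fun c x => by
        ext i
        rcases i with (i | i) | i
        · simp
        · simp
        · fin_cases i <;> simp [mul_left_comm] }
  refine ⟨LinearMap.range L, ?_, ?_⟩
  · have hLinj : Function.Injective L := fun x y h => Prod.ext
      (funext fun i => congrFun h (Sum.inl (Sum.inl i))) (congrFun h (Sum.inr 1))
    rw [LinearMap.finrank_range_of_inj hLinj]
    simp
  · rintro _ ⟨w, rfl⟩
    simp [L, coe_qMinus, Cfsg.quadFormMinus]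
    linear_combination w.2 ^ 2 * hr

/-- The form with the same coefficients over a larger field. -/
def minusMap (m : ℕ) {K : Type*} [Field K] (f : F →+* K) (a b : F) :
    FormMap (qMinus m F a b) (qMinus m K (f a) (f b)) where
  j := f
  e := Equiv.refl _
  A := 1
  μ := 1
  spec v := by simp [coe_qMinus, Cfsg.quadFormMinus, map_sum]

variable (h2 : (2 : F) = 0)
include h2

theorem inndiagPlus_two {m : ℕ} (hm : 4 ≤ m) : Cfsg.inndiagPOmegaPlus m F =
    cast (by rw [coe_qPlus]) (Cfsg.Inn (Cfsg.POmega F (⇑(qPlus m F)))) := by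
  have hn : 7 ≤ Fintype.card (Fin m ⊕ Fin m) := by simp; omega
  obtain ⟨T, hT⟩ := exists_sing_qPlus (F := F) m
  have hiff : ∀ g : simGrp (qPlus m F),
      Cfsg.PreservesSingularClasses (⇑(qPlus m F)) (simMat g) ↔ g ∈ innS (qPlus m F) := by
    intro g
    let d : FormMap (qPlus m F) (qPlus m F) :=
      { j := RingHom.id F, e := Equiv.refl _, A := 1, μ := 1, spec := fun v => by simp }
    have hd : d.psi g = g := by
      refine Subtype.ext ?_
      rw [FormMap.coe_psi, FormMap.coe_base, show d.A = 1 from rfl, one_mul, inv_one, mul_one]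
      rfl
    have := preserves_iff_two h2 (qPlus_nondeg m) hn h2 (qPlus_nondeg m) (k := m)
      (by simp; omega) hT d g
    rwa [hd] at this
  have h := autSubgroupOf_eq (Q := qPlus m F) (innS (qPlus m F))
    (P := fun β => ∃ g : simGrp (qPlus m F), Cfsg.PreservesSingularClasses (⇑(qPlus m F)) (simMat g) ∧
      Cfsg.IsInducedBySemilinearPOmega (⇑(qPlus m F)) (g : GL _ F) (RingEquiv.refl F) β)
    fun β => exists_congr fun g => and_congr_left fun _ => hiff g
  rw [show (innS (qPlus m F)).map (conjAut (qPlus m F)) = Cfsg.Inn (Cfsg.POmega F (⇑(qPlus m F))) from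
    Subgroup.map_comap_eq_self (by rw [inn_eq]; exact Subgroup.map_le_range _ _)] at h
  rw [← h]
  refine eq_of_heq (HEq.symm ((cast_heq _ _).trans ?_))
  rw [Cfsg.inndiagPOmegaPlus]
  unfold Cfsg.IsInnerDiagonalAutPOmegaPlus simMat simGrp
  rw [coe_qPlus]
  exact heq_of_eq (congrArg Cfsg.autSubgroupOf (funext fun β => propext
    ⟨fun ⟨g, h⟩ => ⟨g.1, g.2, h⟩, fun ⟨g, hg, h⟩ => ⟨⟨g, hg⟩, h⟩⟩))

theorem inndiagMinus_two {m : ℕ} (hm : 3 ≤ m) {a b : F}
    (hab : ∀ z₁ z₂ : F, z₁ ^ 2 + a * z₁ * z₂ + b * z₂ ^ 2 = 0 → z₁ = 0 ∧ z₂ = 0) :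
    Cfsg.inndiagPOmegaMinus m F a b =
      cast (by rw [coe_qMinus]) (Cfsg.Inn (Cfsg.POmega F (⇑(qMinus m F a b)))) := by
  have hn : 7 ≤ Fintype.card ((Fin m ⊕ Fin m) ⊕ Fin 2) := by simp; omega
  have hiff : ∀ g : simGrp (qMinus m F a b),
      Cfsg.PreservesSingularClassesMinus m a b (simMat g) ↔ g ∈ innS (qMinus m F a b) := by
    intro g
    have key : ∀ (K : Type u) [Field K] [Algebra F K], Module.finrank F K = 2 →
        (Cfsg.PreservesSingularClasses (Cfsg.quadFormMinus m K (algebraMap F K a) (algebraMap F K b))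
          ((simMat g).map (algebraMap F K)) ↔ g ∈ innS (qMinus m F a b)) := by
      intro K _ _ hK
      haveI : Module.Finite F K := Module.finite_of_finrank_pos (by omega)
      haveI : Finite K := Module.finite_of_finite F
      obtain ⟨r, hr⟩ := exists_root_quadratic hab K hK
      obtain ⟨T, hT⟩ := exists_sing_qMinus hr m
      have h2K : (2 : K) = 0 := by rw [← map_ofNat (algebraMap F K), h2, map_zero]
      have hnd : (polarBilin (qMinus m K (algebraMap F K a) (algebraMap F K b))).Nondegenerate :=
        (LinearMap.BilinForm.nondegenerate_iff_det_ne_zero _).2 (by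
          rw [det_gram_qMinus]
          refine mul_ne_zero (pow_ne_zero _ (by simp)) fun h => discr_ne_zero hab
            ((algebraMap F K).injective ?_)
          rw [map_zero, map_sub, map_mul, map_pow, map_ofNat]
          exact h)
      have := preserves_iff_two h2 (qMinus_nondeg hab m) hn h2K hnd (k := m + 1) (by simp; omega) hT
        (minusMap m (algebraMap F K) a b) g
      rw [coe_qMinus] at this
      rw [← this]
      refine iff_of_eq (congrArg _ ?_)
      unfold simMat
      rw [FormMap.coe_psi, FormMap.coe_base, show (minusMap m (algebraMap F K) a b).A = 1 from rfl, one_mul, inv_one, mul_one]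
      rfl
    refine ⟨fun ⟨K, _, _, hK, hp⟩ => (key K hK).1 hp, fun hg => ?_⟩
    obtain ⟨K, i1, i2, hK⟩ := exists_quadratic_ext hab
    exact ⟨K, i1, i2, hK, (key K hK).2 hg⟩
  have h := autSubgroupOf_eq (Q := qMinus m F a b) (innS (qMinus m F a b))
    (P := fun β => ∃ g : simGrp (qMinus m F a b), Cfsg.PreservesSingularClassesMinus m a b (simMat g) ∧
      Cfsg.IsInducedBySemilinearPOmega (⇑(qMinus m F a b)) (g : GL _ F) (RingEquiv.refl F) β)
    fun β => exists_congr fun g => and_congr_left fun _ => hiff g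
  rw [show (innS (qMinus m F a b)).map (conjAut (qMinus m F a b)) =
      Cfsg.Inn (Cfsg.POmega F (⇑(qMinus m F a b))) from
    Subgroup.map_comap_eq_self (by rw [inn_eq]; exact Subgroup.map_le_range _ _)] at h
  rw [← h]
  refine eq_of_heq (HEq.symm ((cast_heq _ _).trans ?_))
  rw [Cfsg.inndiagPOmegaMinus]
  unfold Cfsg.IsInnerDiagonalAutPOmegaMinus simMat simGrp
  rw [coe_qMinus]
  exact heq_of_eq (congrArg Cfsg.autSubgroupOf (funext fun β => propext
    ⟨fun ⟨g, h⟩ => ⟨g.1, g.2, h⟩, fun ⟨g, hg, h⟩ => ⟨⟨g, hg⟩, h⟩⟩))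

end CfsgLib.Known.OrthFieldCent
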