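import Cfsg.Agent.Lib.Known.OrthFieldCent.Descent
import Cfsg.Agent.Lib.Known.OrthFieldCent.Invariants

/-!
# The index counted by the splitting, in even dimension and odd characteristic
-/

set_option autoImplicit false
set_option linter.unusedSectionVars false

open Matrix

namespace CfsgLib.Known.OrthFieldCent

open CfsgLib.Classical.Quad
open QuadraticMap (polar polarBilin)

section Counting

variable {F : Type*} [Field F] [Finite F] {ι : Type} [Fintype ι] [DecidableEq ι]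
  {Q : QuadraticForm F (ι → F)} {k : ℕ} (H : EvenForm Q k)
include H

theorem innS_le_sgn_ker : innS Q ≤ (sgnHom H).ker := fun _ hx =>
  ((phi0_eq_one_iff H _).1 (innS_le_ker_phi0 H hx)).2

theorem ker_le_sgn_ker : (conjAut Q).ker ≤ (sgnHom H).ker := fun _ hx => (scalar_invariants H hx).2

/-- A subgroup containing the inner part and one element of each remaining class. -/
theorem ker_phi0_le (M : Subgroup (simGrp Q)) (hi : innS Q ≤ M) (e : ↥(Cfsg.isometryGroup F (⇑Q)))
    (hed : Matrix.GeneralLinearGroup.det (e : GL ι F) = 1) (hes : spinO H e ≠ 1)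
    (heM : Subgroup.inclusion (isometry_le_sim Q) e ∈ M) : (phi0 H).ker ≤ M := by
  rw [ker_phi0]
  refine sup_le (fun x hx => ?_) (le_trans ?_ hi)
  · obtain ⟨h, hd, rfl⟩ := soS_elem H x hx
    by_cases hs : spinO H h = 1
    · exact hi ((incl_mem_innS_iff H h).2 ⟨hd, Or.inl hs⟩)
    · have hm : Subgroup.inclusion (isometry_le_sim Q) (h * e) ∈ M :=
        hi ((incl_mem_innS_iff H _).2 ⟨by rw [Subgroup.coe_mul, map_mul, hd, hed, one_mul],
          Or.inl (by rw [map_mul, sqClass_mul_of_ne H hs hes, sqClass_mul_self])⟩)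
      rw [map_mul] at hm
      have := mul_mem hm (inv_mem heM)
      rwa [mul_inv_cancel_right] at this
  · rw [innS_eq]
    exact le_sup_right

variable {F₀ : Type*} [Field F₀] [Finite F₀] {κ : Type} [Fintype κ] [DecidableEq κ]
  {Q₀ : QuadraticForm F₀ (κ → F₀)} (d : FormMap Q₀ Q) (H₀ : EvenForm Q₀ k)
include H₀

/-- One class for an extension of odd degree. -/
theorem relIndex_odd (δ₀ : simGrp Q₀) (hδs : sgnHom H₀ δ₀ = 1)
    (hδm : ¬ IsSquare (d.j (simMult δ₀ : F₀))) {ν : F₀} (hν : ν ≠ 0) (hjν : ¬ IsSquare (d.j ν)) :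
    (innS Q ⊔ (sgnHom H₀).ker.map d.psi).relIndex (sgnHom H).ker = 1 := by
  rw [Subgroup.relIndex_eq_one]
  set M := innS Q ⊔ (sgnHom H₀).ker.map d.psi
  have hδM : d.psi δ₀ ∈ M := Subgroup.mem_sup_right (Subgroup.mem_map_of_mem _ hδs)
  obtain ⟨x, hx1, hx2⟩ := exists_isoMap_spinor H.nondeg (by have := H.seven_le; omega) H₀.nondeg d hν hjν
  have hxd : Matrix.GeneralLinearGroup.det (d.isoMap x : GL ι F) = 1 := by
    have hh : sgnBit H (Subgroup.inclusion (isometry_le_sim Q) (d.isoMap x)) = 1 := by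
      rw [sgnBit_eq_one_iff, sgn_incl H]
      refine Units.ext ?_
      rw [Matrix.GeneralLinearGroup.val_det_apply, Units.val_one, ← LinearMap.det_toLin']
      have := (parity_iff_det H (oEquiv Q (d.isoMap x))).1 hx1
      rw [Units.ext_iff, LinearEquiv.coe_det] at this
      exact this
    rw [← sgn_incl H]
    exact (sgnBit_eq_one_iff H _).1 hh
  have hxM : Subgroup.inclusion (isometry_le_sim Q) (d.isoMap x) ∈ M := by
    refine Subgroup.mem_sup_right ⟨Subgroup.inclusion (isometry_le_sim Q₀) x, ?_, d.psi_incl x⟩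
    show sgnHom H₀ _ = 1
    rw [← sgn_psi_iff d H H₀, d.psi_incl, sgn_incl H, hxd]
  have hle := ker_phi0_le H M le_sup_left (d.isoMap x) hxd hx2 hxM
  intro g hg
  by_cases hgs : IsSquare ((simMult g : Fˣ) : F)
  · exact hle ((phi0_eq_one_iff H g).2 ⟨hgs, hg⟩)
  · have hδ' : multBit H (d.psi δ₀) = Multiplicative.ofAdd 1 :=
      (zmod_two_mult_cases _).resolve_left fun h => hδm (by
        have := (multBit_eq_one_iff H _).1 h
        rwa [simMult_psi d H] at this)
    have hg' : multBit H g = Multiplicative.ofAdd 1 :=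
      (zmod_two_mult_cases _).resolve_left fun h => hgs ((multBit_eq_one_iff H _).1 h)
    have hm : g * d.psi δ₀ ∈ (phi0 H).ker := by
      refine (phi0_eq_one_iff H _).2 ⟨(multBit_eq_one_iff H _).1 ?_, ?_⟩
      · rw [map_mul, hg', hδ']; decide
      · rw [map_mul, MonoidHom.mem_ker.1 hg, (sgn_psi_iff d H H₀ δ₀).2 hδs, one_mul]
    have := mul_mem (hle hm) (inv_mem hδM)
    rwa [mul_inv_cancel_right] at this

/-- The count for a quadratic extension. -/
theorem relIndex_two (hsq : ∀ a : F₀, a ≠ 0 → IsSquare ((d.μ : F) * d.j a)) (hN : NegMem Q)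
    (δ : simGrp Q) (hδm : ¬ IsSquare ((simMult δ : Fˣ) : F)) (hδs : sgnHom H δ = 1)
    (δ₀ : simGrp Q₀) (hδ₀m : ¬ IsSquare ((simMult δ₀ : F₀ˣ) : F₀)) (hδ₀s : sgnHom H₀ δ₀ = 1)
    (e : ↥(Cfsg.isometryGroup F (⇑Q)))
    (he : (d.psi δ₀)⁻¹ * Subgroup.inclusion (isometry_le_sim Q) e ∈ (conjAut Q).ker) :
    (spinO H e = 1 → (innS Q ⊔ (sgnHom H₀).ker.map d.psi).relIndex (sgnHom H).ker = 4) ∧
    (spinO H e ≠ 1 → (innS Q ⊔ (sgnHom H₀).ker.map d.psi).relIndex (sgnHom H).ker = 2) := by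
  set M := innS Q ⊔ (sgnHom H₀).ker.map d.psi
  have hker : (conjAut Q).ker ≤ innS Q := by rw [innS_eq]; exact le_sup_right
  have hψδ : d.psi δ₀ ∈ M := Subgroup.mem_sup_right (Subgroup.mem_map_of_mem _ hδ₀s)
  set ie := Subgroup.inclusion (isometry_le_sim Q) e
  have hie : ie = d.psi δ₀ * ((d.psi δ₀)⁻¹ * ie) := by group
  have hes : Matrix.GeneralLinearGroup.det (e : GL ι F) = 1 := by
    rw [← sgn_incl H, show sgnHom H ie = sgnHom H (d.psi δ₀) * sgnHom H ((d.psi δ₀)⁻¹ * ie) by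
      rw [← map_mul, ← hie], (sgn_psi_iff d H H₀ δ₀).2 hδ₀s,
      (scalar_invariants H he).2, one_mul]
  have hieM : ie ∈ M := by
    rw [hie]
    exact mul_mem hψδ (Subgroup.mem_sup_left (hker he))
  have hphi : ∀ h : simGrp Q₀, h ∈ (phi0 H₀).ker → d.psi h ∈ innS Q := by
    intro h hh
    rw [ker_phi0, Subgroup.mem_sup_of_normal_right] at hh
    obtain ⟨s, hs, c, hc, rfl⟩ := hh
    rw [map_mul]
    refine mul_mem ?_ (hker ?_)
    · obtain ⟨x, hxd, rfl⟩ := soS_elem H₀ s hs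
      rw [d.psi_incl]
      refine (incl_mem_innS_iff H _).2 ⟨?_, Or.inl ?_⟩
      · rw [← sgn_incl H, ← d.psi_incl, (sgn_psi_iff d H H₀ _).2 (by rw [sgn_incl H₀, hxd])]
      · exact spinor_isoMap_eq_one H.nondeg (by have := H.seven_le; omega) H₀.nondeg d hsq x
    · rw [ker_conjAut H.nondeg H.seven_le]
      rw [ker_conjAut H₀.nondeg H₀.seven_le] at hc
      haveI : Nonempty κ := Fintype.card_pos_iff.1 (by have := H₀.seven_le; omega)
      exact (d.base_scalar_iff _).2 hc
  have hMle : M ≤ (phi0 H).ker := by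
    refine sup_le (innS_le_ker_phi0 H) ?_
    rintro _ ⟨h, hh, rfl⟩
    refine (phi0_eq_one_iff H _).2 ⟨?_, (sgn_psi_iff d H H₀ h).2 hh⟩
    have hμ : IsSquare ((d.μ : F)) := by simpa using hsq 1 one_ne_zero
    have h1 := hsq _ (simMult h).ne_zero
    rw [simMult_psi d H]
    show IsSquare (d.j (simMult h : F₀))
    have := h1.div hμ
    rwa [mul_div_cancel_left₀ _ d.μ.ne_zero] at this
  constructor
  · intro hs
    have heq : M = innS Q := by
      refine le_antisymm (sup_le le_rfl ?_) le_sup_left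
      rintro _ ⟨h, hh, rfl⟩
      by_cases hq : IsSquare ((simMult h : F₀ˣ) : F₀)
      · exact hphi h ((phi0_eq_one_iff H₀ h).2 ⟨hq, hh⟩)
      have hm : h * δ₀ ∈ (phi0 H₀).ker := by
        refine (phi0_eq_one_iff H₀ _).2 ⟨(multBit_eq_one_iff H₀ _).1 ?_, ?_⟩
        · rw [map_mul, (zmod_two_mult_cases _).resolve_left fun h' => hq ((multBit_eq_one_iff H₀ h).1 h'),
            (zmod_two_mult_cases _).resolve_left fun h' => hδ₀m ((multBit_eq_one_iff H₀ δ₀).1 h')]
          decide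
        · rw [map_mul, MonoidHom.mem_ker.1 hh, hδ₀s, one_mul]
      have h1 := hphi _ hm
      rw [map_mul] at h1
      have h2 : d.psi δ₀ ∈ innS Q := by
        rw [show d.psi δ₀ = ie * ((d.psi δ₀)⁻¹ * ie)⁻¹ by group]
        exact mul_mem ((incl_mem_innS_iff H e).2 ⟨hes, Or.inl hs⟩) (hker (inv_mem he))
      have := mul_mem h1 (inv_mem h2)
      rwa [mul_inv_cancel_right] at this
    rw [heq, Subgroup.relIndex, Subgroup.index_eq_card]
    exact card_diag_quotient H δ hδm hδs hN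
  · intro hs
    have heq : M = (phi0 H).ker := le_antisymm hMle (ker_phi0_le H M le_sup_left e hes hs hieM)
    rw [heq, Subgroup.relIndex]
    have : (phi0 H).ker.subgroupOf (sgnHom H).ker = ((multBit H).comp (sgnHom H).ker.subtype).ker := by
      ext x
      rw [Subgroup.mem_subgroupOf, MonoidHom.mem_ker, phi0_eq_one_iff, MonoidHom.mem_ker,
        MonoidHom.comp_apply, multBit_eq_one_iff]
      exact ⟨fun h => h.1, fun h => ⟨h, x.2⟩⟩
    rw [this, Subgroup.index_ker,
      MonoidHom.range_eq_top.2 (multBit_restrict_surjective H δ hδm hδs), Subgroup.card_top]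
    simp

end Counting

/-- The spinor norm of a torus element of the plus type form. -/
theorem spinO_torus {F : Type*} [Field F] [Fintype F] {m : ℕ} (H : EvenForm (qPlus m F) m)
    (t : Fin m → F) (ht0 : ∀ i, t i ≠ 0) (ht1 : ∀ i, t i ≠ 1)
    (e : ↥(Cfsg.isometryGroup F (⇑(qPlus m F))))
    (he : ((e : GL (Fin m ⊕ Fin m) F) : Matrix (Fin m ⊕ Fin m) (Fin m ⊕ Fin m) F) =
      Matrix.diagonal (Sum.elim t fun i => (t i)⁻¹)) :
    spinO H e = sqc (∏ i, t i) := by
  classical
  set w : Fin m ⊕ Fin m → F := Sum.elim (fun i => 1 - t i) (fun i => 1 - (t i)⁻¹)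
  have he' : 1 - ((e : GL (Fin m ⊕ Fin m) F) : Matrix (Fin m ⊕ Fin m) (Fin m ⊕ Fin m) F) =
      Matrix.diagonal w := by
    rw [he, ← Matrix.diagonal_one, Matrix.diagonal_sub]
    congr 1
    funext x
    rcases x with i | i <;> rfl
  have h1 : ∀ i, 1 - t i ≠ 0 := fun i => sub_ne_zero.2 (Ne.symm (ht1 i))
  have h2 : ∀ i, 1 - (t i)⁻¹ ≠ 0 := fun i => sub_ne_zero.2 fun h => ht1 i (inv_eq_one.1 h.symm)
  have hwd : (Matrix.diagonal w).det = (∏ i, (1 - t i)) * ∏ i, (1 - (t i)⁻¹) := by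
    simp [w, Matrix.det_diagonal, Fintype.prod_sum_type]
  have hne : (Matrix.diagonal w).det ≠ 0 := by
    rw [hwd]
    exact mul_ne_zero (Finset.prod_ne_zero_iff.2 fun i _ => h1 i) (Finset.prod_ne_zero_iff.2 fun i _ => h2 i)
  have hp : ∏ i, t i ≠ 0 := Finset.prod_ne_zero_iff.2 fun i _ => ht0 i
  have hq : ∏ i, ((1 - t i) / t i) ≠ 0 :=
    Finset.prod_ne_zero_iff.2 fun i _ => div_ne_zero (h1 i) (ht0 i)
  rw [spinO_eq_of_fixed_point_free H e (by rw [he']; exact hne), he', hwd, det_gram_qPlus,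
    show ((-1 : F)) ^ m = ∏ _i : Fin m, (-1 : F) by simp, ← Finset.prod_mul_distrib, ← Finset.prod_mul_distrib,
    show (∏ i, (1 - t i) * (1 - (t i)⁻¹) * -1) =
      (∏ i, ((1 - t i) / t i)) * (∏ i, t i) * ∏ i, ((1 - t i) / t i) by
      rw [← Finset.prod_mul_distrib, ← Finset.prod_mul_distrib]
      refine Finset.prod_congr rfl fun i _ => ?_
      have := ht0 i
      field_simp
      ring,
    sqc_sq_mul hq hp]

end CfsgLib.Known.OrthFieldCent
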