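import Cfsg.Agent.Lib.Classical.Quad.MinusGraphClass
import Cfsg.Agent.Lib.Classical.Quad.OmegaIndex

/-!
# Semilinear similarities between two quadratic spaces, and the induced maps of similarity groups
-/

set_option autoImplicit false
set_option linter.unusedSectionVars false

open Matrix

namespace CfsgLib.Known.OrthFieldCent

open CfsgLib.Classical.Quad
open QuadraticMap (polar polarBilin)

variable {F₀ F : Type*} [Field F₀] [Field F] {κ ι : Type} [Fintype κ] [DecidableEq κ]
  [Fintype ι] [DecidableEq ι]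

theorem form_eq_zero_of_single (D : QuadraticForm F (ι → F))
    (h1 : ∀ i, D (Pi.single i 1) = 0)
    (h2 : ∀ i l, polar D (Pi.single i (1 : F)) (Pi.single l 1) = 0) (x : ι → F) : D x = 0 := by
  have hpol : ∀ u v, polar D u v = 0 := fun u v => by
    have : polarBilin D = 0 := (Pi.basisFun F ι).ext fun i => (Pi.basisFun F ι).ext fun l => by
      simpa using h2 i l
    exact congrFun (congrArg (fun B : LinearMap.BilinForm F (ι → F) => ⇑(B u)) this) v
  have hsum : ∀ s : Finset ι, D (∑ i ∈ s, x i • Pi.single i (1 : F)) = 0 := by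
    intro s
    induction s using Finset.induction_on with
    | empty => simp
    | insert i s hi ih =>
      rw [Finset.sum_insert hi, apply_add, ih, hpol, apply_smul, h1]
      ring
  simpa [← pi_eq_sum_univ'] using hsum Finset.univ

/-- A semilinear similarity from `Q₀` to `Q`: `v ↦ A (j ∘ v)`, up to a re-indexing. -/
structure FormMap (Q₀ : QuadraticForm F₀ (κ → F₀)) (Q : QuadraticForm F (ι → F)) where
  j : F₀ →+* F
  e : κ ≃ ι
  A : GL ι F
  μ : Fˣ
  spec : ∀ v : κ → F₀, Q ((A : Matrix ι ι F) *ᵥ fun i => j (v (e.symm i))) = μ * j (Q₀ v)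

variable {Q₀ : QuadraticForm F₀ (κ → F₀)} {Q : QuadraticForm F (ι → F)}

namespace FormMap

variable (d : FormMap Q₀ Q)

/-- The semilinear map. -/
def map (v : κ → F₀) : ι → F := (d.A : Matrix ι ι F) *ᵥ fun i => d.j (v (d.e.symm i))

theorem apply_map (v : κ → F₀) : Q (d.map v) = d.μ * d.j (Q₀ v) := d.spec v

/-- Entries through `j`, re-indexed. -/
def lift : GL κ F₀ →* GL ι F :=
  (Units.map (Matrix.reindexAlgEquiv F F d.e).toAlgHom.toRingHom.toMonoidHom).comp
    (Units.map d.j.mapMatrix.toMonoidHom)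

theorem coe_lift (g : GL κ F₀) :
    ((d.lift g : GL ι F) : Matrix ι ι F) = Matrix.reindex d.e d.e ((g : Matrix κ κ F₀).map d.j) := rfl

theorem lift_mulVec (g : GL κ F₀) (v : κ → F₀) :
    ((d.lift g : GL ι F) : Matrix ι ι F) *ᵥ (fun i => d.j (v (d.e.symm i))) =
      fun i => d.j (((g : Matrix κ κ F₀) *ᵥ v) (d.e.symm i)) := by
  funext i
  rw [coe_lift, RingHom.map_mulVec]
  simp only [Matrix.mulVec, dotProduct, Matrix.reindex_apply, Matrix.submatrix_apply, Function.comp_apply]
  exact (Equiv.sum_comp d.e.symm fun k => (g : Matrix κ κ F₀).map d.j (d.e.symm i) k * d.j (v k))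

/-- Transport of matrices. -/
def base : GL κ F₀ →* GL ι F := (MulAut.conj d.A).toMonoidHom.comp d.lift

theorem coe_base (g : GL κ F₀) : d.base g = d.A * d.lift g * d.A⁻¹ := rfl

theorem base_mulVec_map (g : GL κ F₀) (v : κ → F₀) :
    ((d.base g : GL ι F) : Matrix ι ι F) *ᵥ d.map v = d.map ((g : Matrix κ κ F₀) *ᵥ v) := by
  rw [coe_base, map, map, Units.val_mul, Units.val_mul, ← Matrix.mulVec_mulVec, Matrix.mulVec_mulVec _ _ (d.A : Matrix ι ι F),
    Units.inv_mul, Matrix.one_mulVec, ← Matrix.mulVec_mulVec, lift_mulVec]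

theorem base_spec (g : GL κ F₀) (c : F₀) (hc : ∀ v, Q₀ ((g : Matrix κ κ F₀) *ᵥ v) = c * Q₀ v)
    (x : ι → F) : Q (((d.base g : GL ι F) : Matrix ι ι F) *ᵥ x) = d.j c * Q x := by
  set M := ((d.base g : GL ι F) : Matrix ι ι F)
  set y := ((d.A⁻¹ : GL ι F) : Matrix ι ι F) *ᵥ x with hy
  let T := Matrix.toLin' (d.A : Matrix ι ι F)
  let D : QuadraticForm F (ι → F) :=
    Q.comp ((Matrix.toLin' M).comp T) - d.j c • Q.comp T
  have hD : ∀ v : κ → F₀, D (fun i => d.j (v (d.e.symm i))) = 0 := fun v => by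
    show Q (Matrix.toLin' M (T _)) - d.j c * Q (T _) = 0
    simp only [T, Matrix.toLin'_apply]
    rw [show ((d.A : Matrix ι ι F) *ᵥ fun i => d.j (v (d.e.symm i))) = d.map v from rfl,
      d.base_mulVec_map g v, d.apply_map, d.apply_map, hc, map_mul]
    ring
  have hs : ∀ i : ι, (Pi.single i (1 : F) : ι → F) =
      fun l => d.j ((Pi.single (d.e.symm i) (1 : F₀) : κ → F₀) (d.e.symm l)) := fun i => by
    funext l
    by_cases h : l = i <;> simp [h, d.e.symm.injective.eq_iff]
  have hD0 : D y = 0 := by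
    refine form_eq_zero_of_single D (fun i => by rw [hs]; exact hD _) (fun i l => ?_) y
    have hadd : (Pi.single i (1 : F) : ι → F) + Pi.single l 1 = fun t =>
        d.j (((Pi.single (d.e.symm i) 1 + Pi.single (d.e.symm l) 1 : κ → F₀)) (d.e.symm t)) := by
      rw [hs, hs]; funext t; simp
    rw [polar, hadd, hD, hs, hs, hD, hD]
    ring
  have hx : T y = x := by
    rw [hy, Matrix.toLin'_apply, Matrix.mulVec_mulVec, ← Units.val_mul, mul_inv_cancel, Units.val_one,
      Matrix.one_mulVec]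
  change Q (Matrix.toLin' M (T y)) - d.j c * Q (T y) = 0 at hD0
  rw [hx, Matrix.toLin'_apply] at hD0
  exact sub_eq_zero.1 hD0

theorem base_mem (g : GL κ F₀) (hg : g ∈ simGrp Q₀) : d.base g ∈ simGrp Q := by
  obtain ⟨c, hc⟩ := hg
  exact ⟨Units.map d.j.toMonoidHom c, d.base_spec g c hc⟩

/-- The induced map of similarity groups. -/
def psi : simGrp Q₀ →* simGrp Q :=
  (d.base.comp (simGrp Q₀).subtype).codRestrict _ fun g => d.base_mem g g.2

theorem coe_psi (g : simGrp Q₀) : (d.psi g : GL ι F) = d.base g := rfl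

theorem psi_mulVec_map (g : simGrp Q₀) (v : κ → F₀) :
    simMat (d.psi g) *ᵥ d.map v = d.map (simMat g *ᵥ v) :=
  d.base_mulVec_map g v

theorem det_base (g : GL κ F₀) :
    ((d.base g : GL ι F) : Matrix ι ι F).det = d.j (g : Matrix κ κ F₀).det := by
  rw [coe_base, ← Matrix.GeneralLinearGroup.val_det_apply, map_mul, map_mul, map_inv,
    mul_inv_cancel_comm, Matrix.GeneralLinearGroup.val_det_apply, coe_lift, Matrix.det_reindex_self,
    RingHom.map_det]
  rfl

theorem base_scalar_iff (g : GL κ F₀) [Nonempty κ] :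
    d.base g ∈ Cfsg.Geo.scalars ι F ↔ g ∈ Cfsg.Geo.scalars κ F₀ := by
  rw [Cfsg.Geo.mem_scalars_iff, Cfsg.Geo.mem_scalars_iff]
  have key : ∀ c : F, ((d.base g : GL ι F) : Matrix ι ι F) = c • 1 ↔
      ((g : Matrix κ κ F₀).map d.j) = c • 1 := by
    intro c
    rw [coe_base, Units.val_mul, Units.val_mul, coe_lift]
    constructor
    · intro h
      have h2 := congrArg (fun M => ((d.A⁻¹ : GL ι F) : Matrix ι ι F) * M * (d.A : Matrix ι ι F)) h
      simp only [← mul_assoc, Units.inv_mul, one_mul] at h2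
      rw [mul_assoc, Units.inv_mul, mul_one, Matrix.mul_smul, Matrix.smul_mul, mul_one, Units.inv_mul] at h2
      apply (Matrix.reindex d.e d.e).injective
      rw [h2]
      simp [Matrix.submatrix_smul]
    · intro h
      rw [h]
      simp [Matrix.submatrix_smul]
  constructor
  · rintro ⟨c, hc⟩
    obtain ⟨k₀⟩ := ‹Nonempty κ›
    have h1 := (key c).1 hc
    have h2 : d.j ((g : Matrix κ κ F₀) k₀ k₀) = c := by simpa using congrFun₂ h1 k₀ k₀
    refine ⟨Units.mk0 ((g : Matrix κ κ F₀) k₀ k₀) fun h0 => c.ne_zero (by rw [← h2, h0, map_zero]), ?_⟩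
    refine Matrix.map_injective d.j.injective (?_ : (g : Matrix κ κ F₀).map d.j = _)
    show _ = (((g : Matrix κ κ F₀) k₀ k₀) • (1 : Matrix κ κ F₀)).map d.j
    rw [h1, Matrix.map_smul' _ _ _ (map_mul d.j), Matrix.map_one _ (map_zero _) (map_one _), h2]
  · rintro ⟨c, hc⟩
    refine ⟨Units.map d.j.toMonoidHom c, (key _).2 ?_⟩
    rw [hc, Matrix.map_smul' _ _ _ (map_mul d.j), Matrix.map_one _ (map_zero _) (map_one _)]
    rfl

/-- The induced map of isometry groups. -/
def isoMap : ↥(Cfsg.isometryGroup F₀ (⇑Q₀)) →* ↥(Cfsg.isometryGroup F (⇑Q)) :=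
  (d.base.comp (Cfsg.isometryGroup F₀ (⇑Q₀)).subtype).codRestrict _ fun g => fun x _ => by
    have h := d.base_spec (g : GL κ F₀) 1 (fun v => by rw [one_mul]; exact g.2 v v) x
    rw [map_one, one_mul] at h
    exact h

theorem psi_incl (g : ↥(Cfsg.isometryGroup F₀ (⇑Q₀))) :
    d.psi (Subgroup.inclusion (isometry_le_sim Q₀) g) =
      Subgroup.inclusion (isometry_le_sim Q) (d.isoMap g) := rfl

theorem map_single (k : κ) :
    d.map (Pi.single k 1) = (d.A : Matrix ι ι F) *ᵥ Pi.single (d.e k) 1 := by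
  rw [map]
  congr 1
  funext i
  by_cases h : i = d.e k
  · subst h; simp
  · simp [h, Equiv.symm_apply_eq]

theorem ext_of_map (M M' : Matrix ι ι F) (h : ∀ v, M *ᵥ d.map v = M' *ᵥ d.map v) : M = M' := by
  have hA : M * (d.A : Matrix ι ι F) = M' * (d.A : Matrix ι ι F) := by
    ext a b
    have h1 := congrFun (h (Pi.single (d.e.symm b) 1)) a
    simp [map_single] at h1
    exact h1
  exact d.A.isUnit.mul_right_cancel hA

theorem polar_map (v w : κ → F₀) : polar Q (d.map v) (d.map w) = d.μ * d.j (polar Q₀ v w) := by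
  have hadd : d.map (v + w) = d.map v + d.map w := by
    simp only [map, ← Matrix.mulVec_add]
    congr 1
    funext i
    simp
  rw [polar, polar, ← hadd, d.apply_map, d.apply_map, d.apply_map, map_sub, map_sub]
  ring

theorem map_smul' (c : F₀) (v : κ → F₀) : d.map (c • v) = d.j c • d.map v := by
  simp only [map, ← Matrix.mulVec_smul]
  congr 1
  funext i
  simp

theorem map_sub' (v w : κ → F₀) : d.map (v - w) = d.map v - d.map w := by
  simp only [map, ← Matrix.mulVec_sub]
  congr 1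
  funext i
  simp

theorem apply_map_ne {v : κ → F₀} (hv : Q₀ v ≠ 0) : Q (d.map v) ≠ 0 := by
  rw [d.apply_map]
  exact mul_ne_zero d.μ.ne_zero (by simpa using hv)

theorem isoMap_rO {v : κ → F₀} (hv : Q₀ v ≠ 0) : d.isoMap (rO hv) = rO (d.apply_map_ne hv) := by
  refine Subtype.ext (Units.ext (d.ext_of_map _ _ fun z => ?_))
  show ((d.base (rO hv : GL κ F₀) : GL ι F) : Matrix ι ι F) *ᵥ d.map z = _
  rw [base_mulVec_map, rO_mulVec, rO_mulVec, reflMap_apply, reflMap_apply, d.map_sub', d.map_smul',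
    d.polar_map, d.apply_map, map_mul, map_inv₀, mul_inv, mul_mul_mul_comm,
    inv_mul_cancel₀ d.μ.ne_zero, one_mul]

/-- A semisimilarity pair as a semilinear similarity of `Q` with itself. -/
noncomputable def ofPair {g : GL ι F} {σ : F ≃+* F} (hp : Cfsg.IsSemisimilarityPair (⇑Q) g σ) :
    FormMap Q Q where
  j := σ.toRingHom
  e := Equiv.refl ι
  A := g
  μ := hp.choose
  spec := hp.choose_spec

theorem ofPair_base {g : GL ι F} {σ : F ≃+* F} (hp : Cfsg.IsSemisimilarityPair (⇑Q) g σ) (h : GL ι F) :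
    (ofPair hp).base h = g * semiMap σ h * g⁻¹ := by
  rw [coe_base]
  rfl

end FormMap

end CfsgLib.Known.OrthFieldCent
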