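import Cfsg.Agent.Lib.Known.OrthFieldCent.Normal

/-!
# Involutory graph-field automorphisms of plus type groups are conjugate under `Inndiag`
-/

set_option autoImplicit false
set_option linter.unusedSectionVars false

open Matrix

namespace CfsgLib.Known.OrthFieldCent

open CfsgLib.Classical.Quad
open QuadraticMap (polar polarBilin)

section General

variable {F : Type*} [Field F] {ι : Type} [Fintype ι] [DecidableEq ι] {Q : QuadraticForm F (ι → F)}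

theorem rO_congr {v w : ι → F} (hv : Q v ≠ 0) (hw : Q w ≠ 0) (h : v = w) : rO hv = rO hw := by
  subst h; rfl

theorem coe_rO {v : ι → F} (hv : Q v ≠ 0) :
    ((rO hv : GL ι F) : Matrix ι ι F) = Cfsg.reflectionMatrix (⇑Q) v :=
  Matrix.ext_of_mulVec_single fun l => by rw [rO_mulVec, reflectionMatrix_mulVec]

/-- A fixed similarity commutes with a standard field automorphism. -/
theorem field_comm_fixed {σ : F ≃+* F} (hσ : Invariant Q σ) {φ : MulAut (Cfsg.POmega F (⇑Q))}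
    (hφ : Cfsg.IsFieldAutPOmegaOf (⇑Q) σ φ) (g : simGrp Q) (hg : semiMap σ (g : GL ι F) = (g : GL ι F)) :
    φ * conjAut Q g = conjAut Q g * φ := by
  rw [conj_formula hσ.pair ((induced_one_iff φ).2 hφ) g]
  congr 2
  refine Subtype.ext ?_
  rw [FormMap.coe_psi, FormMap.ofPair_base, hg, one_mul, inv_one, mul_one]

theorem rO_fixed {σ : F ≃+* F} (hσ : Invariant Q σ) {v : ι → F} (hv : Q v ≠ 0) (hfix : ∀ i, σ (v i) = v i) :
    semiMap σ (rO hv : GL ι F) = (rO hv : GL ι F) := by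
  have h := (FormMap.ofPair hσ.pair).isoMap_rO hv
  have hm : (FormMap.ofPair hσ.pair).map v = v := by
    show ((1 : GL ι F) : Matrix ι ι F) *ᵥ (fun i => σ (v i)) = v
    rw [Units.val_one, Matrix.one_mulVec]
    exact funext hfix
  rw [rO_congr _ hv hm] at h
  have h1 := congrArg (fun x : ↥(Cfsg.isometryGroup F (⇑Q)) => (x : GL ι F)) h
  conv_rhs => rw [← h1]
  show _ = (FormMap.ofPair hσ.pair).base _
  rw [FormMap.ofPair_base, one_mul, inv_one, mul_one]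
  rfl

theorem coe_v₀ (n : ℕ) :
    qPlus (n + 1) F (Sum.elim (Fin.cons 1 0) (Fin.cons (-1) 0)) = -1 := by
  simp [coe_qPlus, Cfsg.quadFormPlus, Fin.sum_univ_succ]

theorem exists_move {F L : Type*} [Field F] [Field L] [Finite L] {n : ℕ} (σ : F ≃+* F) (j : L →+* F)
    (hj : ∀ a : F, σ a = a ↔ a ∈ j.range) {v : Fin (n + 1) ⊕ Fin (n + 1) → F}
    (hv : qPlus (n + 1) F v ≠ 0) (hfix : ∀ i, σ (v i) = v i) :
    ∃ g : simGrp (qPlus (n + 1) F), simMat g *ᵥ v = Sum.elim (Fin.cons 1 0) (Fin.cons (-1) 0) ∧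
      semiMap σ (g : GL (Fin (n + 1) ⊕ Fin (n + 1)) F) = (g : GL (Fin (n + 1) ⊕ Fin (n + 1)) F) := by
  classical
  let d : FormMap (qPlus (n + 1) L) (qPlus (n + 1) F) :=
    { j := j, e := Equiv.refl _, A := 1, μ := 1
      spec := fun v => by simp [coe_qPlus, Cfsg.quadFormPlus] }
  have hmap : ∀ y, d.map y = fun i => j (y i) := fun y => by
    rw [FormMap.map, show d.A = 1 from rfl, Units.val_one, Matrix.one_mulVec]
    rfl
  choose v' hv' using fun i => (hj (v i)).1 (hfix i)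
  let u₀ : Fin (n + 1) ⊕ Fin (n + 1) → L := Sum.elim (Fin.cons 1 0) (Fin.cons (-1) 0)
  have hmv : d.map v' = v := (hmap v').trans (funext hv')
  have hmu : d.map u₀ = Sum.elim (Fin.cons 1 0) (Fin.cons (-1) 0) := by
    rw [hmap]
    funext i
    rcases i with i | i <;> induction i using Fin.cases <;> simp [u₀]
  set c := qPlus (n + 1) L v' with hc
  have hc0 : c ≠ 0 := fun h => hv (by rw [← hmv, d.apply_map, ← hc, h, map_zero, mul_zero])
  let dd : Fin (n + 1) ⊕ Fin (n + 1) → L := Sum.elim (fun _ => 1) (fun _ => -c⁻¹)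
  have hsim : ∀ y, qPlus (n + 1) L (Matrix.diagonal dd *ᵥ y) = -c⁻¹ * qPlus (n + 1) L y := fun y => by
    simp only [coe_qPlus, Cfsg.quadFormPlus, Matrix.mulVec_diagonal, dd, Sum.elim_inl, Sum.elim_inr,
      Finset.mul_sum]
    exact Finset.sum_congr rfl fun i _ => by ring
  obtain ⟨s, hs⟩ := exists_sim_of_matrix (Matrix.diagonal dd) (by
      simp [Matrix.det_diagonal, dd, Fintype.prod_sum_type, hc0])
    (Units.mk0 (-c⁻¹) (neg_ne_zero.2 (inv_ne_zero hc0))) hsim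
  set w := Matrix.diagonal dd *ᵥ v' with hw
  have hw1 : qPlus (n + 1) L w = -1 := by rw [hw, hsim, ← hc, neg_mul, inv_mul_cancel₀ hc0]
  have hw0 : w ≠ 0 := fun h => by
    rw [h, QuadraticMap.map_zero] at hw1; exact one_ne_zero (neg_eq_zero.1 hw1.symm)
  have hu0 : qPlus (n + 1) L u₀ = -1 := coe_v₀ n
  have hu00 : u₀ ≠ 0 := fun h => by
    rw [h, QuadraticMap.map_zero] at hu0; exact one_ne_zero (neg_eq_zero.1 hu0.symm)
  let e := (LinearEquiv.toSpanNonzeroSingleton L _ w hw0).symm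
  let ρ : (L ∙ w) →ₗ[L] (Fin (n + 1) ⊕ Fin (n + 1) → L) := e.toLinearMap.smulRight u₀
  have hex : ∀ y : (L ∙ w), ((y : Fin (n + 1) ⊕ Fin (n + 1) → L)) = e y • w := fun y => by
    conv_lhs => rw [← (LinearEquiv.toSpanNonzeroSingleton L _ w hw0).apply_symm_apply y]
    rfl
  obtain ⟨t, ht⟩ := witt (qPlus_nondeg (n + 1)) (L ∙ w) ρ
    (fun a b h => e.injective (smul_left_injective L hu00 h)) (fun y => by
      show qPlus (n + 1) L (e y • u₀) = _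
      rw [hex y, apply_smul, apply_smul, hu0, hw1])
  have htw : ((t : (Fin (n + 1) ⊕ Fin (n + 1) → L) ≃ₗ[L] _)) w = u₀ := by
    have h := ht ⟨w, Submodule.mem_span_singleton_self w⟩
    rw [h]
    show e ⟨w, _⟩ • u₀ = u₀
    rw [show e ⟨w, Submodule.mem_span_singleton_self w⟩ = 1 from
      (LinearEquiv.symm_apply_eq _).2 (Subtype.ext (one_smul L w).symm), one_smul]
  set T := (oEquiv (qPlus (n + 1) L)).symm t with hT
  refine ⟨d.psi (Subgroup.inclusion (isometry_le_sim _) T * s), ?_, ?_⟩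
  · rw [← hmv, d.psi_mulVec_map, ← hmu]
    congr 1
    unfold simMat
    rw [Subgroup.coe_mul, Units.val_mul, ← Matrix.mulVec_mulVec]
    show ((T : GL (Fin (n + 1) ⊕ Fin (n + 1)) L) :
      Matrix (Fin (n + 1) ⊕ Fin (n + 1)) (Fin (n + 1) ⊕ Fin (n + 1)) L) *ᵥ (simMat s *ᵥ v') = u₀
    rw [hs, ← hw, ← oEquiv_apply, hT, MulEquiv.apply_symm_apply, htw]
  · have h := psi_fixed (R := (1 : GL (Fin (n + 1) ⊕ Fin (n + 1)) F)) d hj
      (by rw [one_mul, show d.A = 1 from rfl, map_one]) (Subgroup.inclusion (isometry_le_sim _) T * s)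
    rwa [one_mul, inv_one, mul_one] at h

end General

theorem conj_back {X : Type*} [Group X] (G α x β : X) (hβ : β = (G * α)⁻¹) (z : X)
    (hz : z = G * (α * x * α⁻¹) * G⁻¹) : x = β * z * β⁻¹ := by
  subst hβ hz
  group

theorem conj_fix {X : Type*} [Group X] (h c x z : X) (hx : x = h * c * z * (h * c)⁻¹) (hc : c * z = z * c) :
    z = h⁻¹ * x * h⁻¹⁻¹ := by
  subst hx
  rw [mul_assoc h c z, hc]
  group

variable {F : Type*} [Field F] [Fintype F] {p f : ℕ} [Fact p.Prime] {n : ℕ}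

set_option maxHeartbeats 4000000 in
theorem exists_standard (hF : Fintype.card F = p ^ f) (hf : 1 ≤ f) (hn : 4 ≤ n)
    {fQ : (Fin (n + 1) ⊕ Fin (n + 1) → F) → F} (hfQ : fQ = ⇑(qPlus (n + 1) F))
    (P : Subgroup (simGrp (qPlus (n + 1) F)))
    (hdich : ∀ (g : simGrp (qPlus (n + 1) F)) (v : Fin (n + 1) ⊕ Fin (n + 1) → F) (hv : qPlus (n + 1) F v ≠ 0),
      g ∈ P ∨ g * Subgroup.inclusion (isometry_le_sim _) (rO hv) ∈ P)
    (S : Subgroup (MulAut (Cfsg.POmega F fQ))) (hS : HEq S (P.map (conjAut (qPlus (n + 1) F))))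
    (x : MulAut (Cfsg.POmega F fQ))
    (hx : ∃ (α γ φ : MulAut (Cfsg.POmega F fQ)) (σ : F ≃+* F) (v : Fin (n + 1) ⊕ Fin (n + 1) → F)
      (r : GL (Fin (n + 1) ⊕ Fin (n + 1)) F),
      σ ≠ RingEquiv.refl F ∧ fQ v ≠ 0 ∧ (∀ i, σ (v i) = v i) ∧
      (r : Matrix (Fin (n + 1) ⊕ Fin (n + 1)) (Fin (n + 1) ⊕ Fin (n + 1)) F) = Cfsg.reflectionMatrix fQ v ∧
      Cfsg.IsInducedBySemilinearPOmega fQ r (RingEquiv.refl F) γ ∧
      Cfsg.IsFieldAutPOmegaOf fQ σ φ ∧ α * x * α⁻¹ = γ * φ)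
    (hx2 : orderOf x = 2) :
    ∃ (γ φ : MulAut (Cfsg.POmega F fQ)) (σ : F ≃+* F) (R : GL (Fin (n + 1) ⊕ Fin (n + 1)) F),
      orderOf σ = 2 ∧ Cfsg.IsFieldAutPOmegaOf fQ σ φ ∧
      (R : Matrix (Fin (n + 1) ⊕ Fin (n + 1)) (Fin (n + 1) ⊕ Fin (n + 1)) F) =
        Cfsg.reflectionMatrix fQ (Sum.elim (Fin.cons 1 0) (Fin.cons (-1) 0)) ∧
      Cfsg.IsInducedBySemilinearPOmega fQ R (RingEquiv.refl F) γ ∧
      Cfsg.IsConjUnder S x (γ * φ) := by
  classical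
  subst hfQ
  obtain rfl := eq_of_heq hS
  obtain ⟨α, γ, φ, σ, v, r, hσ1, hv, hvfix, hr, hγ, hφ, hz⟩ := hx
  set v₀ : Fin (n + 1) ⊕ Fin (n + 1) → F := Sum.elim (Fin.cons 1 0) (Fin.cons (-1) 0) with hv₀def
  have hQ : (polarBilin (qPlus (n + 1) F)).Nondegenerate := qPlus_nondeg (n + 1)
  have hc7 : 7 ≤ Fintype.card (Fin (n + 1) ⊕ Fin (n + 1)) := by simp; omega
  have hv₀ : (qPlus (n + 1) F) v₀ ≠ 0 := by rw [coe_v₀]; exact neg_ne_zero.2 one_ne_zero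
  have hinv : ∀ τ : F ≃+* F, Invariant (qPlus (n + 1) F) τ := fun τ => invariant_qPlus τ (n + 1)
  let J : ∀ {u : Fin (n + 1) ⊕ Fin (n + 1) → F}, (qPlus (n + 1) F) u ≠ 0 → simGrp (qPlus (n + 1) F) := fun hu =>
    Subgroup.inclusion (isometry_le_sim (qPlus (n + 1) F)) (rO hu)
  have hrJ : r = (J hv : GL (Fin (n + 1) ⊕ Fin (n + 1)) F) := Units.ext (hr.trans (coe_rO hv).symm)
  have hγJ : γ = conjAut (qPlus (n + 1) F) (J hv) := (induced_iff (J hv) γ).1 (by rw [← hrJ]; exact hγ)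
  have hJJ : ∀ {u : Fin (n + 1) ⊕ Fin (n + 1) → F} (hu : (qPlus (n + 1) F) u ≠ 0),
      conjAut (qPlus (n + 1) F) (J hu) * conjAut (qPlus (n + 1) F) (J hu) = 1 := fun hu => by
    rw [← map_mul, ← map_mul, rO_mul_self, map_one, map_one]
  have hJcomm : ∀ {u : Fin (n + 1) ⊕ Fin (n + 1) → F} (hu : (qPlus (n + 1) F) u ≠ 0) (τ : F ≃+* F)
      {ψ : MulAut (Cfsg.POmega F (⇑(qPlus (n + 1) F)))}, Cfsg.IsFieldAutPOmegaOf (⇑(qPlus (n + 1) F)) τ ψ → (∀ i, τ (u i) = u i) →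
      ψ * conjAut (qPlus (n + 1) F) (J hu) = conjAut (qPlus (n + 1) F) (J hu) * ψ := fun hu τ _ hψ hfix =>
    field_comm_fixed (hinv τ) hψ _ (rO_fixed (hinv τ) hu hfix)
  -- the field automorphism is an involution
  have hσ : orderOf σ = 2 := by
    have hx1 : (γ * φ) * (γ * φ) = 1 := by
      rw [← hz, show α * x * α⁻¹ * (α * x * α⁻¹) = α * (x ^ 2) * α⁻¹ by rw [sq]; group, ← hx2, pow_orderOf_eq_one]
      group
    have h2 : φ * φ = 1 := by
      rw [← hx1, hγJ, ← mul_assoc (conjAut (qPlus (n + 1) F) (J hv) * φ), mul_assoc (conjAut (qPlus (n + 1) F) (J hv)) φ,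
        hJcomm hv σ hφ hvfix, ← mul_assoc, hJJ, one_mul]
    have hd : orderOf σ ∣ 2 := by
      rw [← orderOf_isField hQ hc7 (hinv σ) hφ]
      exact orderOf_dvd_of_pow_eq_one (by rw [sq, h2])
    exact ((Nat.dvd_prime Nat.prime_two).1 hd).resolve_left fun h => hσ1 (orderOf_eq_one_iff.1 h)
  -- move the vector
  obtain ⟨g, hgv, hgfix⟩ := exists_move (L := σ.toRingHom.eqLocusField (RingHom.id F)) σ
    (σ.toRingHom.eqLocusField (RingHom.id F)).subtype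
    (fun a => ⟨fun ha => ⟨⟨a, ha⟩, rfl⟩, fun ⟨b, hb⟩ => hb ▸ b.2⟩) hv hvfix
  have hGφ := field_comm_fixed (hinv σ) hφ g hgfix
  have hGγ : conjAut (qPlus (n + 1) F) g * γ * (conjAut (qPlus (n + 1) F) g)⁻¹ = conjAut (qPlus (n + 1) F) (J hv₀) := by
    rw [hγJ, ← map_inv, ← map_mul, ← map_mul]
    congr 1
    have hv' : (qPlus (n + 1) F) (simMat g *ᵥ v) ≠ 0 := by rw [hgv]; exact hv₀
    refine Subtype.ext ?_
    show (g : GL (Fin (n + 1) ⊕ Fin (n + 1)) F) * (rO hv : GL (Fin (n + 1) ⊕ Fin (n + 1)) F) * (g : GL (Fin (n + 1) ⊕ Fin (n + 1)) F)⁻¹ = (rO hv₀ : GL (Fin (n + 1) ⊕ Fin (n + 1)) F)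
    rw [← conjO_apply, conjO_rO g hv hv', rO_congr hv' hv₀ hgv]
  set γ₀ := conjAut (qPlus (n + 1) F) (J hv₀) with hγ₀
  have hv₀fix : ∀ (τ : F ≃+* F) i, τ (v₀ i) = v₀ i := fun τ i => by
    rcases i with i | i <;> induction i using Fin.cases <;> simp [v₀]
  -- decompose the conjugating automorphism
  obtain ⟨β, hβ⟩ : ∃ β, β = (conjAut (qPlus (n + 1) F) g * α)⁻¹ := ⟨_, rfl⟩
  have hxβ : x = β * (γ₀ * φ) * β⁻¹ := by
    have e1 : γ₀ * φ = conjAut (qPlus (n + 1) F) g * (γ * φ) * (conjAut (qPlus (n + 1) F) g)⁻¹ := by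
      rw [← hGγ, mul_assoc (conjAut (qPlus (n + 1) F) g * γ) (conjAut (qPlus (n + 1) F) g)⁻¹ φ]
      rw [show (conjAut (qPlus (n + 1) F) g)⁻¹ * φ = φ * (conjAut (qPlus (n + 1) F) g)⁻¹ from by
        rw [inv_mul_eq_iff_eq_mul, ← mul_assoc, ← hGφ, mul_inv_cancel_right]]
      group
    exact conj_back (conjAut (qPlus (n + 1) F) g) α x β hβ (γ₀ * φ)
      (e1.trans (congrArg (fun t => conjAut (qPlus (n + 1) F) g * t * (conjAut (qPlus (n + 1) F) g)⁻¹) hz.symm))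
  obtain ⟨D, hT'⟩ := AutPOmega.big_qPlus (F := F) (m := n + 1) (by omega)
  obtain ⟨h, τ, hp, hi⟩ := AutPOmega.exists_induced D hT' β
  have hh : h ∈ simGrp (qPlus (n + 1) F) := by
    obtain ⟨μ, hμ⟩ := hp
    refine ⟨μ, fun y => ?_⟩
    have h1 := hμ fun i => τ.symm (y i)
    simp only [RingEquiv.apply_symm_apply] at h1
    rw [h1]
    congr 1
    have h2 := hinv τ fun i => τ.symm (y i)
    simp only [RingEquiv.apply_symm_apply] at h2
    exact h2.symm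
  set H : simGrp (qPlus (n + 1) F) := ⟨h, hh⟩
  obtain ⟨φτ, hφτ⟩ : ∃ φτ, φτ = (conjAut (qPlus (n + 1) F) H)⁻¹ * β := ⟨_, rfl⟩
  have hfτ : Cfsg.IsFieldAutPOmegaOf (⇑(qPlus (n + 1) F)) τ φτ := fun s s' hs' => by
    rw [hφτ]
    refine (MulEquiv.symm_apply_eq (conjAut (qPlus (n + 1) F) H)).2 ?_
    rw [conjAut_mk]
    refine hi s _ ?_
    rw [commRestrict_apply, conjO_apply, ← hs']
    simp [H]
  have hβe : β = conjAut (qPlus (n + 1) F) H * φτ := by rw [hφτ, mul_inv_cancel_left]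
  have hτσ : τ * σ = σ * τ := RingEquiv.ext fun a => by
    obtain ⟨-, hpow⟩ := CfsgLib.Known.AutPSL.involution_eq_pow hF hf σ hσ
    show τ (σ a) = σ (τ a)
    rw [hpow, hpow, map_pow]
  have hc1 : φτ * φ = φ * φτ := by
    have e1 := isField_mul (hinv σ) hfτ hφ
    have e2 := isField_mul (hinv τ) hφ hfτ
    rw [hτσ] at e1
    exact induced_unique ((hinv σ).trans (hinv τ)).pair ((induced_one_iff _).2 e1) ((induced_one_iff _).2 e2)
  have hc2 : φτ * γ₀ = γ₀ * φτ := hJcomm hv₀ τ hfτ (hv₀fix τ)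
  have hc3 : φ * γ₀ = γ₀ * φ := hJcomm hv₀ σ hφ (hv₀fix σ)
  have hcz : φτ * (γ₀ * φ) = γ₀ * φ * φτ := by
    rw [← mul_assoc, hc2, mul_assoc, hc1, ← mul_assoc]
  refine ⟨γ₀, φ, σ, (J hv₀ : GL (Fin (n + 1) ⊕ Fin (n + 1)) F), hσ, hφ, coe_rO hv₀, (induced_iff (J hv₀) γ₀).2 rfl, ?_⟩
  have hJ0 : γ₀ * γ₀ = 1 := hJJ hv₀
  have hγz : γ₀ * (γ₀ * φ) = (γ₀ * φ) * γ₀ := by rw [mul_assoc γ₀ φ γ₀, hc3]
  obtain hP | hP := hdich H v₀ hv₀
  · exact ⟨(conjAut (qPlus (n + 1) F) H)⁻¹, inv_mem (Subgroup.mem_map_of_mem _ hP),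
      conj_fix (conjAut (qPlus (n + 1) F) H) φτ x (γ₀ * φ) (hβe ▸ hxβ) hcz⟩
  · refine ⟨(conjAut (qPlus (n + 1) F) (H * J hv₀))⁻¹, inv_mem (Subgroup.mem_map_of_mem _ hP), ?_⟩
    refine conj_fix _ (γ₀ * φτ) x (γ₀ * φ) ?_ ?_
    · rw [map_mul, ← hγ₀, mul_assoc (conjAut (qPlus (n + 1) F) H), ← mul_assoc γ₀ γ₀, hJ0, one_mul, ← hβe]
      exact hxβ
    · rw [mul_assoc γ₀ φτ, hcz, ← mul_assoc γ₀ (γ₀ * φ), hγz, mul_assoc]

end CfsgLib.Known.OrthFieldCent
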