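import Cfsg.Agent.Lib.Known.OrthFieldCent.Transfer
import Cfsg.Agent.Lib.Known.OrthFieldCent.CharTwoForms

/-!
# Standard field automorphisms of the plus type groups
-/

set_option autoImplicit false
set_option linter.unusedSectionVars false

open Matrix

namespace CfsgLib.Known.OrthFieldCent

open CfsgLib.Classical.Quad
open QuadraticMap (polar polarBilin)

theorem invariant_qPlus {F : Type*} [Field F] (σ : F ≃+* F) (m : ℕ) : Invariant (qPlus m F) σ := fun v => by
  simp [coe_qPlus, Cfsg.quadFormPlus, map_sum]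

theorem isFieldAutPOmega_cast {F : Type*} [Field F] {ι : Type} [Fintype ι] [DecidableEq ι]
    {f : (ι → F) → F} {σ : F ≃+* F} (φ : MulAut (Cfsg.POmega F f))
    (hφ : Cfsg.IsFieldAutPOmegaOf f σ φ) :
    Cfsg.IsInducedBySemilinearPOmega f 1 σ φ := fun s s' hs => hφ s s' (by simpa using hs)

theorem pair_plus {F : Type*} [Field F] (σ : F ≃+* F) (m : ℕ) :
    Cfsg.IsSemisimilarityPair (Cfsg.quadFormPlus m F) (1 : GL (Fin m ⊕ Fin m) F) σ := by
  rw [← coe_qPlus]
  exact (invariant_qPlus σ m).pair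

/-- The prime-degree subfield data. -/
theorem exists_subfield_data {F : Type*} [Field F] [Fintype F] {p f r : ℕ} [Fact p.Prime]
    (hF : Fintype.card F = p ^ f) (hf : 1 ≤ f) (σ : F ≃+* F) (hord : orderOf σ = r)
    (F₀ : Type*) [Field F₀] [Fintype F₀] (hF₀ : Fintype.card F₀ = p ^ (f / r)) :
    r ∣ f ∧ Fintype.card F = Fintype.card F₀ ^ r ∧ ∃ j : F₀ →+* F, ∀ a : F, σ a = a ↔ a ∈ j.range := by
  obtain ⟨hdvd, -⟩ := AutPSL.exists_fixed_field hF hf σ hord
  exact ⟨hdvd, by rw [hF, hF₀, ← pow_mul, Nat.div_mul_cancel hdvd],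
    AutPSL.exists_fixed_embedding hF hf σ hord F₀ hF₀⟩

theorem two_eq_zero_iff {F : Type*} [Field F] [Fintype F] {p f : ℕ} [Fact p.Prime]
    (hF : Fintype.card F = p ^ f) (hf : 1 ≤ f) : (2 : F) = 0 ↔ p = 2 := by
  have h : CharP F p := by
    obtain ⟨n, hp, hn⟩ := FiniteField.card F (ringChar F)
    have : ringChar F = p := by
      have h1 : p ∣ ringChar F ^ (n : ℕ) := by rw [← hn, hF]; exact dvd_pow_self p (by omega)
      exact ((Nat.prime_dvd_prime_iff_eq Fact.out hp).1 ((Fact.out : p.Prime).dvd_of_dvd_pow h1)).symm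
    exact ringChar.of_eq this
  refine ⟨fun h2 => ?_, fun h2 => ?_⟩
  · exact (Nat.prime_dvd_prime_iff_eq Fact.out Nat.prime_two).1
      ((CharP.cast_eq_zero_iff F p 2).1 (by exact_mod_cast h2))
  · subst h2
    exact_mod_cast CharP.cast_eq_zero F 2

variable {F : Type*} [Field F] [Fintype F] {p f : ℕ} [Fact p.Prime] {m r : ℕ}

set_option maxHeartbeats 800000 in
theorem plus_standard (hF : Fintype.card F = p ^ f) (hf : 1 ≤ f) (hm : 4 ≤ m)
    (φ : MulAut (Cfsg.POmega F (Cfsg.quadFormPlus m F))) (σ : F ≃+* F)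
    (hφ : Cfsg.IsFieldAutPOmegaOf (Cfsg.quadFormPlus m F) σ φ) (hr : r.Prime) (hord : orderOf σ = r)
    (F₀ : Type*) [Field F₀] [Fintype F₀] (hF₀ : Fintype.card F₀ = p ^ (f / r)) :
    Nonempty (↥(Cfsg.inndiagPOmegaPlus m F ⊓ Subgroup.centralizer {φ}) ≃* ↥(Cfsg.inndiagPOmegaPlus m F₀)) ∧
    ((Odd r ∨ p = 2) → Cfsg.splitClassCount (Cfsg.inndiagPOmegaPlus m F)
        (Cfsg.Inn (Cfsg.POmega F (Cfsg.quadFormPlus m F))) φ = 1) ∧
    ((r = 2 ∧ p ≠ 2 ∧ Odd m ∧ p ^ (f / 2) % 4 = 1) → Cfsg.splitClassCount (Cfsg.inndiagPOmegaPlus m F)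
        (Cfsg.Inn (Cfsg.POmega F (Cfsg.quadFormPlus m F))) φ = 2) ∧
    ((r = 2 ∧ p ≠ 2 ∧ ¬ (Odd m ∧ p ^ (f / 2) % 4 = 1)) → Cfsg.splitClassCount (Cfsg.inndiagPOmegaPlus m F)
        (Cfsg.Inn (Cfsg.POmega F (Cfsg.quadFormPlus m F))) φ = 4) := by
  classical
  obtain ⟨hdvd, hcard, j, hj⟩ := exists_subfield_data hF hf σ hord F₀ hF₀
  have hf₀ : 1 ≤ f / r := Nat.div_pos (Nat.le_of_dvd hf hdvd) hr.pos
  let d : FormMap (qPlus m F₀) (qPlus m F) :=
    { j := j, e := Equiv.refl _, A := 1, μ := 1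
      spec := fun v => by simp [coe_qPlus, Cfsg.quadFormPlus, map_sum] }
  have hn : 7 ≤ Fintype.card (Fin m ⊕ Fin m) := by simp; omega
  have hA : (1 : GL (Fin m ⊕ Fin m) F) * semiMap σ d.A = d.A := by
    rw [one_mul, show d.A = 1 from rfl, map_one]
  by_cases h2 : (2 : F) = 0
  · have h20 : (2 : F₀) = 0 := j.injective (by rw [map_ofNat, map_zero]; exact h2)
    obtain ⟨hC, hS⟩ := transfer_full (coe_qPlus m F).symm (coe_qPlus m F₀).symm (qPlus_nondeg m) hn
      (qPlus_nondeg m) d (pair_plus σ m) φ (isFieldAutPOmega_cast φ hφ) hj hA (innS _) (innS _)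
      (psi_mem_innS_two h20 (qPlus_nondeg m) hn h2 (qPlus_nondeg m) d) le_rfl
      (Cfsg.inndiagPOmegaPlus m F) (by rw [inndiagPlus_two h2 hm, map_innS]; exact cast_heq _ _)
      (Cfsg.inndiagPOmegaPlus m F₀) (by rw [inndiagPlus_two h20 hm, map_innS]; exact cast_heq _ _)
    have hp2 : p = 2 := (two_eq_zero_iff hF hf).1 h2
    refine ⟨hC, fun _ => ?_, fun h => absurd hp2 h.2.1, fun h => absurd hp2 h.2.1⟩
    rw [hS, Subgroup.relIndex_eq_one]
    exact le_sup_left
  · have hp2 : p ≠ 2 := fun h => h2 ((two_eq_zero_iff hF hf).2 h)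
    have hpo : Odd p := (Fact.out : p.Prime).odd_of_ne_two hp2
    have hodd : Odd (Fintype.card F) := by rw [hF]; exact hpo.pow
    have hodd₀ : Odd (Fintype.card F₀) := by rw [hF₀]; exact hpo.pow
    have h20 : (2 : F₀) ≠ 0 := two_ne_zero_of_odd rfl hodd₀
    set H := evenForm_qPlus (F := F) hodd hm
    set H₀ := evenForm_qPlus (F := F₀) hodd₀ hm
    obtain ⟨hC, hS⟩ := transfer_full (coe_qPlus m F).symm (coe_qPlus m F₀).symm (qPlus_nondeg m) hn
      (qPlus_nondeg m) d (pair_plus σ m) φ (isFieldAutPOmega_cast φ hφ) hj hA (sgnHom H).ker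
      (sgnHom H₀).ker (fun h => sgn_psi_iff d H H₀ h) (innS_le_sgn_ker H)
      (Cfsg.inndiagPOmegaPlus m F) (by rw [inndiagPlus_eq hodd hm]; exact cast_heq _ _)
      (Cfsg.inndiagPOmegaPlus m F₀) (by rw [inndiagPlus_eq hodd₀ hm]; exact cast_heq _ _)
    obtain ⟨α, hα⟩ := FiniteField.exists_nonsquare (F := F₀)
      (fun h => h20 (by have := ringChar.eq_iff.1 h; exact CharTwo.two_eq_zero))
    have hα0 : α ≠ 0 := by rintro rfl; exact hα IsSquare.zero
    let dd : Fin m ⊕ Fin m → F₀ := Sum.elim (fun _ => 1) (fun _ => α)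
    have hdet : (Matrix.diagonal dd).det = α ^ m := by
      simp [dd, Matrix.det_diagonal, Fintype.prod_sum_type]
    have hsim : ∀ v, qPlus m F₀ (Matrix.diagonal dd *ᵥ v) = α * qPlus m F₀ v := fun v => by
      simp only [coe_qPlus, Cfsg.quadFormPlus, Matrix.mulVec_diagonal, dd, Sum.elim_inl, Sum.elim_inr,
        Finset.mul_sum]
      exact Finset.sum_congr rfl fun i _ => by ring
    obtain ⟨δ₀, hδ₀⟩ := exists_sim_of_matrix (Matrix.diagonal dd) (by rw [hdet]; exact pow_ne_zero _ hα0)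
      (Units.mk0 α hα0) hsim
    have hμ₀ : simMult δ₀ = Units.mk0 α hα0 := simMult_eq H₀ _ _ (by rw [hδ₀]; exact hsim)
    have hδ₀s : sgnHom H₀ δ₀ = 1 := by rw [sgnHom_eq_one_iff, hδ₀, hdet, hμ₀]; rfl
    refine ⟨hC, fun h => ?_, ?_⟩
    · have hro : Odd r := h.resolve_right hp2
      have hjα := not_isSquare_map_of_odd j hro hcard h20 hα
      rw [hS]
      exact relIndex_odd H d H₀ δ₀ hδ₀s (by rw [hμ₀]; exact hjα) hα0 hjα
    · by_cases hr2 : r = 2
      swap
      · exact ⟨fun h => absurd h.1 hr2, fun h => absurd h.1 hr2⟩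
      subst hr2
      have hsq := isSquare_map_of_two j hcard
      obtain ⟨β, hβ⟩ := hsq α
      have hβ0 : β ≠ 0 := fun h => hα0 (j.injective (by rw [hβ, h, mul_zero, map_zero]))
      have hβ1 : β⁻¹ ≠ 1 := fun h => by
        rw [inv_eq_one] at h
        rw [h, mul_one, ← map_one j] at hβ
        exact hα (by rw [j.injective hβ]; exact IsSquare.one)
      obtain ⟨δ, hδm, hδs, -, -⟩ := exists_delta_plus (F := F) hodd hm
      let t : Fin m → F := fun _ => β⁻¹
      let M : Matrix (Fin m ⊕ Fin m) (Fin m ⊕ Fin m) F := Matrix.diagonal (Sum.elim t fun i => (t i)⁻¹)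
      have hMdet : M.det ≠ 0 := by
        simp [M, t, Matrix.det_diagonal, Fintype.prod_sum_type, hβ0]
      let eg : GL (Fin m ⊕ Fin m) F := Matrix.GeneralLinearGroup.mkOfDetNeZero M hMdet
      have hegm : eg ∈ Cfsg.isometryGroup F (⇑(qPlus m F)) := fun v _ => by
        show qPlus m F (M *ᵥ v) = _
        simp only [coe_qPlus, Cfsg.quadFormPlus, M, t, Matrix.mulVec_diagonal, Sum.elim_inl, Sum.elim_inr,
          inv_inv]
        exact Finset.sum_congr rfl fun i _ => by field_simp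
      have he : (d.psi δ₀)⁻¹ * Subgroup.inclusion (isometry_le_sim _) ⟨eg, hegm⟩ ∈
          (conjAut (qPlus m F)).ker := by
        refine (mem_ker_iff (qPlus_nondeg m) hn _).2 ⟨Units.mk0 β⁻¹ (inv_ne_zero hβ0), ?_⟩
        have hψ : simMat (d.psi δ₀) = Matrix.diagonal fun i => j (dd i) := by
          unfold simMat
          rw [FormMap.coe_psi, FormMap.coe_base, show d.A = 1 from rfl, one_mul, inv_one, mul_one, FormMap.coe_lift]
          show Matrix.reindex (Equiv.refl _) (Equiv.refl _) ((simMat δ₀).map j) = _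
          rw [hδ₀]
          ext a b
          by_cases hab : a = b <;> simp [hab]
        have hM : M = β⁻¹ • simMat (d.psi δ₀) := by
          rw [hψ]
          ext x y
          by_cases hxy : x = y
          · subst hxy
            rcases x with i | i
            · simp [M, t, dd]
            · simp [M, t, dd, hβ, hβ0]
          · simp [M, hxy]
        show (((d.psi δ₀ : GL _ F))⁻¹ : GL _ F).1 * M = _
        rw [hM, Matrix.mul_smul, Units.inv_mul]
        rfl
      obtain ⟨h4, h2'⟩ := relIndex_two H d H₀ (fun a _ => by simpa [d] using hsq a)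
        ((negMem_qPlus hodd hm).2 fun ⟨_, h34⟩ => by
          rw [hcard, Nat.pow_mod] at h34
          obtain ⟨s, hs⟩ := hodd₀
          have : Fintype.card F₀ % 4 = 1 ∨ Fintype.card F₀ % 4 = 3 := by omega
          rcases this with e | e <;> rw [e] at h34 <;> norm_num at h34)
        δ hδm hδs δ₀ (by rw [hμ₀]; exact hα) hδ₀s ⟨eg, hegm⟩ he
      have hspin : spinO H ⟨eg, hegm⟩ = 1 ↔ ¬ (Odd m ∧ p ^ (f / 2) % 4 = 1) := by
        rw [spinO_torus H t (fun _ => inv_ne_zero hβ0) (fun _ => hβ1) ⟨eg, hegm⟩ rfl,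
          sqc_eq_one_iff (by simp [t, hβ0]), Finset.prod_const, Finset.card_univ, Fintype.card_fin,
          isSquare_pow_iff (inv_ne_zero hβ0), isSquare_inv, sqrt_isSquare_iff j hcard h20 hα hβ.symm,
          ← Nat.not_even_iff_odd, hF₀]
        have : p ^ (f / 2) % 4 = 1 ∨ p ^ (f / 2) % 4 = 3 := by
          obtain ⟨s, hs⟩ := hpo.pow (n := f / 2)
          omega
        rcases this with e | e <;> simp [e]
      rw [hS]
      exact ⟨fun h => h2' fun hs => hspin.1 hs h.2.2, fun h => h4 (hspin.2 h.2.2)⟩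

end CfsgLib.Known.OrthFieldCent
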