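import Cfsg.Agent.Lib.Known.OrthFieldCent.GraphFieldConj

/-!
# Field and graph-field automorphisms of plus type groups: the statements
-/

set_option autoImplicit false
set_option linter.unusedSectionVars false

open Matrix

namespace CfsgLib.Known.OrthFieldCent

open CfsgLib.Classical.Quad
open QuadraticMap (polar polarBilin)

variable {F : Type*} [Field F] [Fintype F] {p f : ℕ} [Fact p.Prime]

theorem plus_full (hF : Fintype.card F = p ^ f) (hf : 1 ≤ f) {m : ℕ} (hm : 4 ≤ m)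
    [(Cfsg.inndiagPOmegaPlus m F).Normal] (x : MulAut (Cfsg.POmega F (Cfsg.quadFormPlus m F)))
    (hx : Cfsg.IsFieldAutClassPOmega (Cfsg.quadFormPlus m F) x) {r : ℕ} (hr : r.Prime) (hxr : orderOf x = r)
    (F₀ : Type*) [Field F₀] [Fintype F₀] (hF₀ : Fintype.card F₀ = p ^ (f / r)) :
    r ∣ f ∧ Nonempty (↥(Cfsg.inndiagPOmegaPlus m F ⊓ Subgroup.centralizer {x}) ≃* ↥(Cfsg.inndiagPOmegaPlus m F₀)) ∧
    ((Odd r ∨ p = 2) → Cfsg.splitClassCount (Cfsg.inndiagPOmegaPlus m F)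
        (Cfsg.Inn (Cfsg.POmega F (Cfsg.quadFormPlus m F))) x = 1) ∧
    ((r = 2 ∧ p ≠ 2 ∧ Odd m ∧ p ^ (f / 2) % 4 = 1) → Cfsg.splitClassCount (Cfsg.inndiagPOmegaPlus m F)
        (Cfsg.Inn (Cfsg.POmega F (Cfsg.quadFormPlus m F))) x = 2) ∧
    ((r = 2 ∧ p ≠ 2 ∧ ¬ (Odd m ∧ p ^ (f / 2) % 4 = 1)) → Cfsg.splitClassCount (Cfsg.inndiagPOmegaPlus m F)
        (Cfsg.Inn (Cfsg.POmega F (Cfsg.quadFormPlus m F))) x = 4) := by
  obtain ⟨α, φ, σ, -, hφ, hz⟩ := hx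
  have hn : 7 ≤ Fintype.card (Fin m ⊕ Fin m) := by simp; omega
  have hord : orderOf σ = r := by
    rw [← orderOf_isField_cast (coe_qPlus m F).symm (qPlus_nondeg m) hn (invariant_qPlus σ m) hφ, ← hz]
    exact ((MulAut.conj α).orderOf_eq x).trans hxr
  obtain ⟨hdvd, -⟩ := exists_subfield_data hF hf σ hord F₀ hF₀
  haveI := inn_normal (Cfsg.POmega F (Cfsg.quadFormPlus m F))
  obtain ⟨hs, ⟨e⟩⟩ := conj_full (Cfsg.inndiagPOmegaPlus m F) (Cfsg.Inn (Cfsg.POmega F (Cfsg.quadFormPlus m F))) hz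
  obtain ⟨⟨c⟩, h1, h2, h3⟩ := plus_standard hF hf hm φ σ hφ hr hord F₀ hF₀
  rw [hs]
  exact ⟨hdvd, ⟨e.trans c⟩, h1, h2, h3⟩

/-- Every similarity, or its product with a reflection, induces an inner-diagonal automorphism. -/
theorem exists_diag_sub {n : ℕ} (hn : 4 ≤ n) :
    ∃ P : Subgroup (simGrp (qPlus (n + 1) F)),
      HEq (Cfsg.inndiagPOmegaPlus (n + 1) F) (P.map (conjAut (qPlus (n + 1) F))) ∧
      ∀ (g : simGrp (qPlus (n + 1) F)) (v : Fin (n + 1) ⊕ Fin (n + 1) → F) (hv : qPlus (n + 1) F v ≠ 0),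
        g ∈ P ∨ g * Subgroup.inclusion (isometry_le_sim _) (rO hv) ∈ P := by
  classical
  have hQ : (polarBilin (qPlus (n + 1) F)).Nondegenerate := qPlus_nondeg (n + 1)
  have hc7 : 7 ≤ Fintype.card (Fin (n + 1) ⊕ Fin (n + 1)) := by simp; omega
  by_cases h2 : (2 : F) = 0
  · refine ⟨innS _, by rw [inndiagPlus_two h2 (by omega), map_innS]; exact cast_heq _ _, fun g v hv => ?_⟩
    obtain ⟨z, x, hz, rfl⟩ := sim_decomp h2 hQ hc7 g
    have hzi : z ∈ innS (qPlus (n + 1) F) := by rw [innS_eq]; exact Subgroup.mem_sup_right hz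
    rcases zmod_two_mult_cases (invs hQ (by omega) x).1 with h | h
    · exact Or.inl (mul_mem hzi ((incl_mem_innS_two h2 hQ hc7 x).2 h))
    · right
      rw [mul_assoc, ← map_mul]
      refine mul_mem hzi ((incl_mem_innS_two h2 hQ hc7 _).2 ?_)
      rw [map_mul, Prod.fst_mul, h, invs_rO]
      show Multiplicative.ofAdd (1 : ZMod 2) * Multiplicative.ofAdd 1 = 1
      decide
  · have hodd : Odd (Fintype.card F) := Nat.odd_iff.2 (FiniteField.odd_card_of_char_ne_two fun hc => h2 (by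
      have := ringChar.eq_iff.1 hc; exact CharTwo.two_eq_zero))
    set H := evenForm_qPlus (F := F) hodd (m := n + 1) (by omega)
    refine ⟨(sgnHom H).ker, by rw [inndiagPlus_eq hodd (by omega)]; exact cast_heq _ _, fun g v hv => ?_⟩
    rcases sgnHom_cases H g with h | h
    · exact Or.inl h
    · right
      show sgnHom H (g * _) = 1
      rw [map_mul, h, sgn_incl H, det_rO, neg_one_mul, neg_neg]

theorem graphField_full (hF : Fintype.card F = p ^ f) (hf : 1 ≤ f) {n : ℕ} (hn : 4 ≤ n)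
    (x : MulAut (Cfsg.POmega F (Cfsg.quadFormPlus (n + 1) F)))
    (hx : Cfsg.IsGraphFieldAutClassPOmegaPlus (n + 1) x) (hx2 : orderOf x = 2)
    (F₀ : Type*) [Field F₀] [Fintype F₀] (hF₀ : Fintype.card F₀ = p ^ (f / 2)) :
    Even f ∧
    (∀ y : MulAut (Cfsg.POmega F (Cfsg.quadFormPlus (n + 1) F)), Cfsg.IsGraphFieldAutClassPOmegaPlus (n + 1) y →
      orderOf y = 2 → Cfsg.IsConjUnder (Cfsg.inndiagPOmegaPlus (n + 1) F) x y) ∧
    (∃ a₀ b₀ : F₀, (∀ z₁ z₂ : F₀, z₁ ^ 2 + a₀ * z₁ * z₂ + b₀ * z₂ ^ 2 = 0 → z₁ = 0 ∧ z₂ = 0) ∧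
      Nonempty (↥(Cfsg.inndiagPOmegaPlus (n + 1) F ⊓ Subgroup.centralizer {x}) ≃*
        ↥(Cfsg.inndiagPOmegaMinus n F₀ a₀ b₀))) ∧
    (p = 2 → Cfsg.splitClassCount (Cfsg.inndiagPOmegaPlus (n + 1) F)
        (Cfsg.Inn (Cfsg.POmega F (Cfsg.quadFormPlus (n + 1) F))) x = 1) ∧
    ((p ≠ 2 ∧ Odd (n + 1) ∧ p ^ (f / 2) % 4 = 1) → Cfsg.splitClassCount (Cfsg.inndiagPOmegaPlus (n + 1) F)
        (Cfsg.Inn (Cfsg.POmega F (Cfsg.quadFormPlus (n + 1) F))) x = 4) ∧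
    ((p ≠ 2 ∧ ¬ (Odd (n + 1) ∧ p ^ (f / 2) % 4 = 1)) → Cfsg.splitClassCount (Cfsg.inndiagPOmegaPlus (n + 1) F)
        (Cfsg.Inn (Cfsg.POmega F (Cfsg.quadFormPlus (n + 1) F))) x = 2) := by
  obtain ⟨P, hP, hdich⟩ := exists_diag_sub (F := F) hn
  obtain ⟨γ, φ, σ, R, hσ, hφ, hR, hγ, hc⟩ :=
    exists_standard hF hf hn (coe_qPlus (n + 1) F).symm P hdich _ hP x hx hx2
  have heven := (AutPSL.involution_eq_pow hF hf σ hσ).1
  refine ⟨heven, fun y hy hy2 => ?_, ?_⟩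
  · obtain ⟨γ', φ', σ', R', hσ', hφ', hR', hγ', hc'⟩ :=
      exists_standard hF hf hn (coe_qPlus (n + 1) F).symm P hdich _ hP y hy hy2
    have hσe : σ' = σ := RingEquiv.ext fun a => by
      rw [(AutPSL.involution_eq_pow hF hf σ hσ).2, (AutPSL.involution_eq_pow hF hf σ' hσ').2]
    subst hσe
    obtain rfl : R' = R := Units.ext (hR'.trans hR.symm)
    have he : γ' * φ' = γ * φ := by
      have key : ∀ {fQ : (Fin (n + 1) ⊕ Fin (n + 1) → F) → F} (_ : fQ = ⇑(qPlus (n + 1) F))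
          (a a' b b' : MulAut (Cfsg.POmega F fQ)), Cfsg.IsInducedBySemilinearPOmega fQ R' (RingEquiv.refl F) a →
          Cfsg.IsInducedBySemilinearPOmega fQ R' (RingEquiv.refl F) a' → Cfsg.IsFieldAutPOmegaOf fQ σ' b →
          Cfsg.IsFieldAutPOmegaOf fQ σ' b' → R' ∈ Cfsg.isometryGroup F fQ → a * b = a' * b' := by
        intro fQ hfQ a a' b b' ha ha' hb hb' hmem
        subst hfQ
        rw [(induced_iff ⟨R', isometry_le_sim _ hmem⟩ a).1 ha, (induced_iff ⟨R', isometry_le_sim _ hmem⟩ a').1 ha',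
          induced_unique (invariant_qPlus σ' (n + 1)).pair ((induced_one_iff _).2 hb) ((induced_one_iff _).2 hb')]
      refine key (coe_qPlus (n + 1) F).symm _ _ _ _ hγ' hγ hφ' hφ ?_
      have hv : qPlus (n + 1) F (Sum.elim (Fin.cons 1 0) (Fin.cons (-1) 0)) ≠ 0 := by
        rw [coe_v₀]; exact neg_ne_zero.2 one_ne_zero
      rw [show R' = (rO hv : GL (Fin (n + 1) ⊕ Fin (n + 1)) F) from
        Units.ext (by rw [hR, coe_rO, coe_qPlus]), ← coe_qPlus]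
      exact (rO hv).2
    rw [he] at hc'
    exact ClassSplit.isConjUnder_trans hc (ClassSplit.isConjUnder_symm hc')
  · obtain ⟨h, -, he⟩ := hc
    haveI := inn_normal (Cfsg.POmega F (Cfsg.quadFormPlus (n + 1) F))
    haveI := inndiagPlus_normal (F := F) (m := n + 1) (by omega) (Or.inl (by omega))
    obtain ⟨hs, ⟨e⟩⟩ := conj_full (Cfsg.inndiagPOmegaPlus (n + 1) F)
      (Cfsg.Inn (Cfsg.POmega F (Cfsg.quadFormPlus (n + 1) F))) he.symm
    obtain ⟨⟨a₀, b₀, hab, ⟨c⟩⟩, h1, h2, h3⟩ :=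
      graphField_standard hF hf (by omega) φ γ σ hσ hφ _ rfl R hR hγ F₀ hF₀
    rw [hs]
    exact ⟨⟨a₀, b₀, hab, ⟨e.trans c⟩⟩, h1, h2, h3⟩

end CfsgLib.Known.OrthFieldCent
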