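import Cfsg.Agent.Lib.Known.OrthFieldCent.StdAut
import Cfsg.Agent.Lib.Known.OrthFieldCent.Counts

/-!
# Centralizer and splitting for some spelling of the forms; square roots in a quadratic extension
-/

set_option autoImplicit false
set_option linter.unusedSectionVars false

open Matrix

namespace CfsgLib.Known.OrthFieldCent

open CfsgLib.Classical.Quad
open QuadraticMap (polar polarBilin)

variable {F : Type*} [Field F] [Finite F] {ι : Type} [Fintype ι] [DecidableEq ι]
  {Q : QuadraticForm F (ι → F)} {F₀ : Type*} [Field F₀] [Finite F₀] {κ : Type} [Fintype κ]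
  [DecidableEq κ] {Q₀ : QuadraticForm F₀ (κ → F₀)}

/-- Both conclusions, for some spelling of the two forms. -/
theorem transfer_full {f : (ι → F) → F} (hf : f = ⇑Q) {f₀ : (κ → F₀) → F₀} (hf₀ : f₀ = ⇑Q₀)
    (hQ : (polarBilin Q).Nondegenerate) (hn : 7 ≤ Fintype.card ι) (hQ₀ : (polarBilin Q₀).Nondegenerate)
    (d : FormMap Q₀ Q) {R : GL ι F} {σ : F ≃+* F} (hp : Cfsg.IsSemisimilarityPair f R σ)
    (z : MulAut (Cfsg.POmega F f)) (hz : Cfsg.IsInducedBySemilinearPOmega f R σ z)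
    (hj : ∀ a : F, σ a = a ↔ a ∈ d.j.range) (hA : R * semiMap σ d.A = d.A)
    (P : Subgroup (simGrp Q)) (P₀ : Subgroup (simGrp Q₀)) (hP : ∀ h, d.psi h ∈ P ↔ h ∈ P₀)
    (hiP : innS Q ≤ P)
    (S : Subgroup (MulAut (Cfsg.POmega F f))) (hS : HEq S (P.map (conjAut Q)))
    (S₀ : Subgroup (MulAut (Cfsg.POmega F₀ f₀))) (hS₀ : HEq S₀ (P₀.map (conjAut Q₀))) :
    Nonempty (↥(S ⊓ Subgroup.centralizer {z}) ≃* ↥S₀) ∧
      Cfsg.splitClassCount S (Cfsg.Inn (Cfsg.POmega F f)) z =
        (innS Q ⊔ P₀.map d.psi).relIndex P := by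
  subst hf hf₀
  obtain rfl := eq_of_heq hS
  obtain rfl := eq_of_heq hS₀
  have hkP : (conjAut Q).ker ≤ P := le_trans (by rw [innS_eq]; exact le_sup_right) hiP
  exact ⟨nonempty_centralizer hQ hn hQ₀ d hp hz hj hA P P₀ hP hkP,
    split_index hQ hn hQ₀ d hp hz hj hA P P₀ hP hkP hiP⟩

theorem map_innS {ι : Type} [Fintype ι] [DecidableEq ι] (Q : QuadraticForm F (ι → F)) :
    (innS Q).map (conjAut Q) = Cfsg.Inn (Cfsg.POmega F (⇑Q)) :=
  Subgroup.map_comap_eq_self (by rw [inn_eq]; exact Subgroup.map_le_range _ _)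

omit [Finite F] [Finite F₀] in
/-- A square root, in the quadratic extension, of a non-square. -/
theorem sqrt_isSquare_iff [Fintype F] [Fintype F₀] (j : F₀ →+* F)
    (hcard : Fintype.card F = Fintype.card F₀ ^ 2) (h2 : (2 : F₀) ≠ 0) {α : F₀} (hα : ¬ IsSquare α)
    {β : F} (hβ : β * β = j α) : IsSquare β ↔ Fintype.card F₀ % 4 = 3 := by
  have hα0 : α ≠ 0 := by rintro rfl; exact hα IsSquare.zero
  have hc₀ : ringChar F₀ ≠ 2 := fun h => h2 (by have := ringChar.eq_iff.1 h; exact CharTwo.two_eq_zero)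
  have h2F : (2 : F) ≠ 0 := fun h => h2 (j.injective (by rw [map_ofNat, map_zero]; exact h))
  have hc : ringChar F ≠ 2 := fun h => h2F (by have := ringChar.eq_iff.1 h; exact CharTwo.two_eq_zero)
  have hβ0 : β ≠ 0 := fun h => hα0 (j.injective (by rw [← hβ, h, mul_zero, map_zero]))
  obtain ⟨t, ht⟩ : Odd (Fintype.card F₀) := Nat.odd_iff.2 (FiniteField.odd_card_of_char_ne_two hc₀)
  have hm1 : α ^ t = -1 := by
    have h := (FiniteField.pow_dichotomy hc₀ hα0).resolve_left
      fun h => hα ((FiniteField.isSquare_iff hc₀ hα0).2 h)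
    rwa [ht, show (2 * t + 1) / 2 = t by omega] at h
  rw [FiniteField.isSquare_iff hc hβ0, hcard,
    show Fintype.card F₀ ^ 2 / 2 = 2 * (t * (t + 1)) by
      rw [ht, show (2 * t + 1) ^ 2 = 2 * (2 * (t * (t + 1))) + 1 by ring]; omega,
    pow_mul, sq, hβ, ← map_pow, pow_mul, hm1]
  rcases Nat.even_or_odd t with he | ho
  · have hne : (-1 : F) ≠ 1 := fun h => h2F (by linear_combination -h)
    rw [Odd.neg_one_pow he.add_one, map_neg, map_one]
    obtain ⟨s, hs⟩ := he
    exact iff_of_false hne (by omega)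
  · rw [Even.neg_one_pow ho.add_one, map_one]
    obtain ⟨s, hs⟩ := ho
    exact iff_of_true rfl (by omega)

omit [Finite F] in
theorem isSquare_pow_iff {β : F} (hβ : β ≠ 0) (m : ℕ) : IsSquare (β ^ m) ↔ Even m ∨ IsSquare β := by
  rcases Nat.even_or_odd m with he | ⟨s, hs⟩
  · exact iff_of_true (he.isSquare_pow β) (Or.inl he)
  · refine ⟨fun ⟨c, hc⟩ => Or.inr ⟨c / β ^ s, ?_⟩, fun h => ?_⟩
    · rw [div_mul_div_comm, ← hc, hs]
      field_simp
      ring
    · rcases h with h | h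
      · exact h.isSquare_pow β
      · exact h.pow m

end CfsgLib.Known.OrthFieldCent
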