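import Cfsg.Agent.Lib.Known.AutPOmega.PairOrbit
import Cfsg.Agent.Lib.Known.OrthFieldCent.Normal

/-!
# The inner-diagonal group of `PΩ⁺₈` in odd characteristic is normal

A conjugate of an inner-diagonal automorphism agrees with an inner one on each pair of commuting
non-adjacent root groups. So it permutes the pencils and comes from a semisimilarity, which is
linear as it fixes some root group pointwise, and it keeps both families of singular solids.
-/

set_option autoImplicit false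
set_option linter.unusedSectionVars false

open Matrix

namespace CfsgLib.Known.OrthFieldCent

open CfsgLib.Classical.Quad
open CfsgLib.Known.AutPOmega
open QuadraticMap (polar polarBilin)

variable {F : Type*} [Field F] [Finite F] {ι : Type} [Fintype ι] [DecidableEq ι]

/-- The action of the similarities on the linear model of `PΩ`. -/
noncomputable def linAut (Q : QuadraticForm F (ι → F)) : simGrp Q →* MulAut (POm Q) :=
  (MulAut.congr (pOmegaEquiv Q)).toMonoidHom.comp (conjAut Q)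

variable {Q : QuadraticForm F (ι → F)}

/-- A similarity as a semisimilarity. -/
noncomputable def semiOfSim (h : simGrp Q) : Semi Q where
  G := (simEquiv h).toAddEquiv
  θ := RingEquiv.refl F
  c := (simMult h : F)
  c_ne := (simMult h).ne_zero
  semilin := fun t x => map_smul (simEquiv h) t x
  quad := fun x => simMult_spec h x

theorem linAut_eq (D : Big Q) (h : simGrp Q) : linAut Q h = (semiOfSim h).aut := by
  set β₀ : MulAut (Cfsg.POmega F (⇑Q)) := (MulAut.congr (pOmegaEquiv Q)).symm (semiOfSim h).aut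
    with hβ₀
  have h2 : Cfsg.IsInducedBySemilinearPOmega (⇑Q) (h : GL ι F) (RingEquiv.refl F) β₀ :=
    induced_of_semi D (semiOfSim h) β₀ (fun x => by
      show pOmegaEquiv Q ((pOmegaEquiv Q).symm ((semiOfSim h).aut (pOmegaEquiv Q x))) = _
      rw [MulEquiv.apply_symm_apply]) _ fun v => rfl
  show MulAut.congr (pOmegaEquiv Q) (conjAut Q h) = _
  rw [← (induced_iff h β₀).1 h2, hβ₀, MulEquiv.apply_symm_apply]

theorem linAut_X (D : Big Q) (h : simGrp Q) {u v : ι → F} (hp : Pair Q u v) :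
    Pair Q (simMat h *ᵥ u) (simMat h *ᵥ v) ∧
      img (linAut Q h) (X D u v) = X D (simMat h *ᵥ u) (simMat h *ᵥ v) := by
  rw [linAut_eq D h]
  exact img_X_semi D (semiOfSim h) hp

theorem linAut_X_eigen (D : Big Q) (h : simGrp Q) {u v : ι → F} (hp : Pair Q u v) {a b : F}
    (hu : simMat h *ᵥ u = a • u) (hv : simMat h *ᵥ v = b • v) :
    img (linAut Q h) (X D u v) = X D u v := by
  obtain ⟨hp', e⟩ := linAut_X D h hp
  rw [e]
  exact X_change D hp (hu ▸ Submodule.smul_mem _ _ (left_mem_line u v))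
    (hv ▸ Submodule.smul_mem _ _ (right_mem_line u v)) hp'.li

theorem congr_conj {G G' : Type*} [Group G] [Group G'] (e : G ≃* G') (a : G) :
    MulAut.congr e (MulAut.conj a) = MulAut.conj (e a) := MulEquiv.ext fun x => by
  show e (a * e.symm x * a⁻¹) = e a * x * (e a)⁻¹
  simp

theorem linAut_mem_inn {i : simGrp Q} (hi : i ∈ innS Q) :
    linAut Q i ∈ Cfsg.Inn (POm Q) := by
  obtain ⟨a, ha⟩ := hi
  exact ⟨pOmegaEquiv Q a, ((congrArg (MulAut.congr (pOmegaEquiv Q)) ha).symm.trans (congr_conj _ a)).symm⟩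

theorem exists_innS_of_inn {ω : MulAut (POm Q)} (hω : ω ∈ Cfsg.Inn (POm Q)) :
    ∃ i ∈ innS Q, linAut Q i = ω := by
  obtain ⟨b, rfl⟩ := hω
  have hm : MulAut.conj ((pOmegaEquiv Q).symm b) ∈ Cfsg.Inn (Cfsg.POmega F (⇑Q)) := ⟨_, rfl⟩
  rw [← map_innS] at hm
  obtain ⟨i, hi, e⟩ := hm
  refine ⟨i, hi, ?_⟩
  show MulAut.congr (pOmegaEquiv Q) (conjAut Q i) = _
  rw [e, congr_conj, MulEquiv.apply_symm_apply]

variable {k : ℕ} (H : EvenForm Q k)
include H

theorem innS_le_ker : innS Q ≤ (sgnHom H).ker := by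
  rw [innS_eq]
  exact sup_le (fun g hg => ((mem_soS_iff H g).1 (omS_le_soS H hg)).2)
    fun g hg => (scalar_invariants H hg).2

/-- Two elements generate the sign kernel modulo `Ω` and the scalars. -/
theorem ker_le_sup (d : simGrp Q) (hd : ¬ IsSquare ((simMult d : Fˣ) : F)) (hds : sgnHom H d = 1)
    (t : ↥(Cfsg.isometryGroup F (⇑Q))) (ht : Matrix.GeneralLinearGroup.det (t : GL ι F) = 1)
    (hts : spinO H t ≠ 1) :
    (sgnHom H).ker ≤ innS Q ⊔ Subgroup.closure {d, Subgroup.inclusion (isometry_le_sim Q) t} := by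
  set K := innS Q ⊔ Subgroup.closure {d, Subgroup.inclusion (isometry_le_sim Q) t}
  have hdK : d ∈ K := Subgroup.mem_sup_right (Subgroup.subset_closure (Or.inl rfl))
  have htK : Subgroup.inclusion (isometry_le_sim Q) t ∈ K :=
    Subgroup.mem_sup_right (Subgroup.subset_closure (Or.inr rfl))
  have hphi : (phi0 H).ker ≤ K := by
    rw [ker_phi0]
    refine sup_le (fun g hg => ?_) fun g hg => Subgroup.mem_sup_left (by rw [innS_eq]; exact Subgroup.mem_sup_right hg)
    obtain ⟨h, hdet, rfl⟩ := soS_elem H g hg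
    by_cases hsp : spinO H h = 1
    · exact Subgroup.mem_sup_left (omega_mem_innS ((mem_Omega_iff H h).2 ⟨hdet, hsp⟩))
    · have hm : h * t⁻¹ ∈ Cfsg.Omega F (⇑Q) := (mem_Omega_iff H _).2
        ⟨by rw [Subgroup.coe_mul, Subgroup.coe_inv, map_mul, map_inv, hdet, ht, inv_one, mul_one],
          by rw [map_mul, map_inv, sqClass_mul_of_ne H hsp hts, mul_inv_cancel]⟩
      have := mul_mem (Subgroup.mem_sup_left (omega_mem_innS hm) : _ ∈ K) htK
      rwa [← map_mul, inv_mul_cancel_right] at this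
  intro g hg
  by_cases hsq : IsSquare ((simMult g : Fˣ) : F)
  · exact hphi ((phi0_eq_one_iff H g).2 ⟨hsq, hg⟩)
  · have hm : multBit H (g * d⁻¹) = 1 := by
      rw [map_mul, map_inv,
        (zmod_two_mult_cases (multBit H g)).resolve_left fun h => hsq ((multBit_eq_one_iff H g).1 h),
        (zmod_two_mult_cases (multBit H d)).resolve_left fun h => hd ((multBit_eq_one_iff H d).1 h),
        mul_inv_cancel]
    have h1 : g * d⁻¹ ∈ K := hphi ((phi0_eq_one_iff H _).2 ⟨(multBit_eq_one_iff H _).1 hm, by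
      rw [map_mul, map_inv, MonoidHom.mem_ker.1 hg, hds, inv_one, mul_one]⟩)
    simpa using mul_mem h1 hdK

omit H

section Eight

variable {F : Type*} [Field F]

/-- The standard vectors. -/
noncomputable def bv (i : Fin 4 ⊕ Fin 4) : Fin 4 ⊕ Fin 4 → F := Pi.single i 1

theorem q_bv (i : Fin 4 ⊕ Fin 4) : qPlus 4 F (bv i) = 0 := by
  rcases i with i | i <;> simp [coe_qPlus, Cfsg.quadFormPlus, bv, Pi.single_apply]

theorem polar_bv (i j : Fin 4 ⊕ Fin 4) :
    polar (qPlus 4 F) (bv i) (bv j) = if j = i.swap then 1 else 0 := by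
  rcases i with i | i <;> rcases j with j | j <;>
    simp [polar, coe_qPlus, Cfsg.quadFormPlus, bv, Pi.single_apply, Finset.sum_ite_eq',
      Finset.sum_add_distrib, add_mul, mul_add, eq_comm]

theorem pair_bv {i j : Fin 4 ⊕ Fin 4} (h : i ≠ j) (h' : j ≠ i.swap) : Pair (qPlus 4 F) (bv i) (bv j) :=
  ⟨q_bv i, q_bv j, by rw [polar_bv, if_neg h'], LinearIndependent.pair_iff.2 fun a b hab => by
    have h1 := congrFun hab i
    have h2 := congrFun hab j
    simp [bv, h, h.symm] at h1 h2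
    exact ⟨h1, h2⟩⟩

theorem li_bv {n : ℕ} (s : Fin n → Fin 4 ⊕ Fin 4) (hs : Function.Injective s) :
    LinearIndependent F fun i => bv (F := F) (s i) := by
  have h := ((Pi.basisFun F (Fin 4 ⊕ Fin 4)).linearIndependent).comp s hs
  have e : (fun i => bv (F := F) (s i)) = (Pi.basisFun F (Fin 4 ⊕ Fin 4)) ∘ s := by
    funext i; simp [bv]
  rwa [e]

theorem big_eight : Big (qPlus 4 F) :=
  ⟨qPlus_nondeg 4, by rw [Module.finrank_pi]; simp⟩

variable [Fintype F] (hodd : Odd (Fintype.card F))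
include hodd

local notation "Q₈" => qPlus 4 F
local notation "H₈" => evenForm_qPlus (F := F) hodd (le_refl 4)
local notation "D₈" => big_eight (F := F)

theorem exists_gens : ∃ (d : simGrp (qPlus 4 F)) (t : ↥(Cfsg.isometryGroup F (⇑(qPlus 4 F)))),
    ¬ IsSquare ((simMult d : Fˣ) : F) ∧ sgnHom (evenForm_qPlus hodd (le_refl 4)) d = 1 ∧
    Matrix.GeneralLinearGroup.det (t : GL (Fin 4 ⊕ Fin 4) F) = 1 ∧
    spinO (evenForm_qPlus hodd (le_refl 4)) t ≠ 1 ∧
    (∀ i, simMat d *ᵥ bv (Sum.inl i) = bv (Sum.inl i)) ∧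
    (∀ i, simMat d *ᵥ bv (Sum.inr i) = (simMult d : F) • bv (Sum.inr i)) ∧
    (∀ i, ∃ a : F, simMat (Subgroup.inclusion (isometry_le_sim _) t) *ᵥ bv i = a • bv (F := F) i) ∧
    (∀ i, i ≠ Sum.inl 0 → i ≠ Sum.inr 0 →
      simMat (Subgroup.inclusion (isometry_le_sim _) t) *ᵥ bv i = bv i) := by
  classical
  obtain ⟨α, hα⟩ := FiniteField.exists_nonsquare (F := F) (fun h => (H₈).two_ne (by
    have := ringChar.eq_iff.1 h
    exact CharTwo.two_eq_zero))
  have hα0 : α ≠ 0 := by rintro rfl; exact hα IsSquare.zero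
  let w : Fin 4 ⊕ Fin 4 → F := Sum.elim (fun _ => 1) (fun _ => α)
  have hdet : (Matrix.diagonal w).det = α ^ 4 := by
    simp [w, Matrix.det_diagonal, Fintype.prod_sum_type]
  have hsim : ∀ v, qPlus 4 F (Matrix.diagonal w *ᵥ v) = α * qPlus 4 F v := fun v => by
    simp only [coe_qPlus, Cfsg.quadFormPlus, Matrix.mulVec_diagonal, w, Sum.elim_inl, Sum.elim_inr,
      Finset.mul_sum]
    exact Finset.sum_congr rfl fun i _ => by ring
  obtain ⟨d, hd⟩ := exists_sim_of_matrix (Matrix.diagonal w) (by rw [hdet]; exact pow_ne_zero _ hα0)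
    (Units.mk0 α hα0) hsim
  have hμ : simMult d = Units.mk0 α hα0 := simMult_eq H₈ _ _ (by rw [hd]; exact hsim)
  set e : Fin 4 ⊕ Fin 4 → F := bv (Sum.inl 0) with he
  set f : Fin 4 ⊕ Fin 4 → F := bv (Sum.inr 0) with hf
  have hee : polar (qPlus 4 F) e e = 0 := by rw [he, polar_bv]; simp
  have hff : polar (qPlus 4 F) f f = 0 := by rw [hf, polar_bv]; simp
  have hef : polar (qPlus 4 F) e f = 1 := by rw [he, hf, polar_bv]; simp
  have hfe : polar (qPlus 4 F) f e = 1 := by rw [he, hf, polar_bv]; simp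
  have hval : ∀ c : F, qPlus 4 F (e + c • f) = c := fun c => by
    rw [apply_add, apply_smul, polar_smul_right', hef, he, hf, q_bv, q_bv]; ring
  have hv : qPlus 4 F (e + (1 : F) • f) ≠ 0 := by rw [hval]; exact one_ne_zero
  have hw : qPlus 4 F (e + α • f) ≠ 0 := by rw [hval]; exact hα0
  have hfix : ∀ i : Fin 4 ⊕ Fin 4, i ≠ Sum.inl 0 → i ≠ Sum.inr 0 → ∀ c : F, polar (qPlus 4 F) (bv i) (e + c • f) = 0 := by
    intro i h1 h2 c
    rcases i with i | i <;>
      simp [polar_add_right', polar_smul_right', he, hf, polar_bv] at h1 h2 ⊢ <;>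
      simp [eq_comm, h1, h2]
  have happ : ∀ z, simMat (Subgroup.inclusion (isometry_le_sim _) (rO hw * rO hv)) *ᵥ z =
      reflMap (qPlus 4 F) (e + α • f) (reflMap (qPlus 4 F) (e + (1 : F) • f) z) := fun z => by
    rw [← rO_mulVec hw, ← rO_mulVec hv, Matrix.mulVec_mulVec]
    rfl
  refine ⟨d, rO hw * rO hv, by rwa [hμ], by rw [sgnHom_eq_one_iff, hd, hdet, hμ]; rfl, ?_, ?_,
    fun i => ?_, fun i => ?_, fun i => ?_, fun i h1 h2 => ?_⟩
  · rw [Subgroup.coe_mul, map_mul, det_rO, det_rO, neg_one_mul, neg_neg]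
  · rw [map_mul, spinO_rO, spinO_rO, hval, hval, (sqc_eq_one_iff one_ne_zero).2 IsSquare.one, mul_one]
    exact fun h => hα ((sqc_eq_one_iff hα0).1 h)
  · rw [hd]; funext x
    rw [Matrix.mulVec_diagonal]
    rcases x with x | x <;> simp [w, bv, Pi.single_apply]
  · rw [hd, hμ]; funext x
    rw [Matrix.mulVec_diagonal]
    rcases x with x | x <;> simp [w, bv, Pi.single_apply]
  · by_cases h1 : i = Sum.inl 0
    · subst h1
      refine ⟨α⁻¹, ?_⟩
      rw [happ, reflMap_apply, reflMap_apply, hval, hval, ← he]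
      simp only [polar_add_right', polar_smul_right', polar_add_left', polar_smul_left',
        QuadraticMap.polar_sub_left, hee, hff, hef, hfe]
      match_scalars <;> field_simp <;> ring
    by_cases h2 : i = Sum.inr 0
    · subst h2
      refine ⟨α, ?_⟩
      rw [happ, reflMap_apply, reflMap_apply, hval, hval, ← hf]
      simp only [polar_add_right', polar_smul_right', polar_add_left', polar_smul_left',
        QuadraticMap.polar_sub_left, hee, hff, hef, hfe]
      match_scalars <;> field_simp <;> ring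
    exact ⟨(1 : F), by rw [happ, reflMap_perp (hfix i h1 h2 1), reflMap_perp (hfix i h1 h2 α), one_smul]⟩
  · rw [happ, reflMap_perp (hfix i h1 h2 1), reflMap_perp (hfix i h1 h2 α)]

/-- The elements of the sign kernel act on every opposite pair like inner automorphisms. -/
theorem agree_sim [Finite (POm (qPlus 4 F))] (g : simGrp (qPlus 4 F))
    (hg : g ∈ (sgnHom (evenForm_qPlus hodd (le_refl 4))).ker) :
    Agree D₈ (Cfsg.Inn (POm (qPlus 4 F))) (linAut (qPlus 4 F) g) := by
  classical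
  haveI := inn_normal (POm Q₈)
  haveI := inn_normal (Cfsg.POmega F (⇑Q₈))
  haveI : (innS Q₈).Normal := Subgroup.normal_comap _
  obtain ⟨d, t, hd, hds, ht, hts, hdl, hdr, hte, -⟩ := exists_gens hodd
  have hde : ∀ i, ∃ a : F, simMat d *ᵥ bv i = a • bv i := by
    rintro (i | i)
    · exact ⟨1, by rw [hdl, one_smul]⟩
    · exact ⟨_, hdr i⟩
  -- the standard pairs
  have std : ∀ {i j i' j' : Fin 4 ⊕ Fin 4}, i ≠ j → j ≠ i.swap → i' ≠ j' → j' ≠ i'.swap →
      ∀ (h : simGrp Q₈), ∃ ω ∈ Cfsg.Inn (POm Q₈),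
        img (linAut Q₈ g) (X D₈ (simMat h *ᵥ bv i) (simMat h *ᵥ bv j)) =
          img ω (X D₈ (simMat h *ᵥ bv i) (simMat h *ᵥ bv j)) ∧
        img (linAut Q₈ g) (X D₈ (simMat h *ᵥ bv i') (simMat h *ᵥ bv j')) =
          img ω (X D₈ (simMat h *ᵥ bv i') (simMat h *ᵥ bv j')) := by
    intro i j i' j' hij hij' hkl hkl' h
    have hp := pair_bv (F := F) hij hij'
    have hp' := pair_bv (F := F) hkl hkl'
    have hg' : h⁻¹ * g * h ∈ innS Q₈ ⊔ Subgroup.closure {d, Subgroup.inclusion (isometry_le_sim Q₈) t} :=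
      ker_le_sup H₈ d hd hds t ht hts (by
        rw [MonoidHom.mem_ker, map_mul, map_mul, MonoidHom.mem_ker.1 hg, mul_one, ← map_mul,
          inv_mul_cancel, map_one])
    rw [← SetLike.mem_coe, Subgroup.normal_mul] at hg'
    obtain ⟨a, ha, s, hs, e⟩ := Set.mem_mul.1 hg'
    let St : Subgroup (simGrp Q₈) :=
      { carrier := {x | img (linAut Q₈ x) (X D₈ (bv i) (bv j)) = X D₈ (bv i) (bv j) ∧
          img (linAut Q₈ x) (X D₈ (bv i') (bv j')) = X D₈ (bv i') (bv j')}
        one_mem' := ⟨by rw [map_one]; exact Set.image_id _, by rw [map_one]; exact Set.image_id _⟩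
        mul_mem' := fun {x y} hx hy => ⟨by rw [map_mul, img_mul D₈, hy.1, hx.1],
          by rw [map_mul, img_mul D₈, hy.2, hx.2]⟩
        inv_mem' := fun {x} hx => ⟨by rw [map_inv]; conv_lhs => rw [← hx.1]
                                      exact img_inv_img _ _,
          by rw [map_inv]; conv_lhs => rw [← hx.2]
             exact img_inv_img _ _⟩ }
    have hle : Subgroup.closure {d, Subgroup.inclusion (isometry_le_sim Q₈) t} ≤ St := by
      rw [Subgroup.closure_le]
      rintro x (rfl | rfl)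
      · exact ⟨linAut_X_eigen D₈ _ hp (hde i).choose_spec (hde j).choose_spec,
          linAut_X_eigen D₈ _ hp' (hde i').choose_spec (hde j').choose_spec⟩
      · exact ⟨linAut_X_eigen D₈ _ hp (hte i).choose_spec (hte j).choose_spec,
          linAut_X_eigen D₈ _ hp' (hte i').choose_spec (hte j').choose_spec⟩
    have hfix := hle hs
    refine ⟨linAut Q₈ h * linAut Q₈ a * (linAut Q₈ h)⁻¹,
      Subgroup.Normal.conj_mem inferInstance _ (linAut_mem_inn ha) _, ?_, ?_⟩
    all_goals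
      rw [show g = h * (a * s) * h⁻¹ by rw [e]; group, map_mul, map_mul, map_mul, map_inv,
        img_mul D₈, img_mul D₈, img_mul D₈, img_mul D₈, img_mul D₈]
    · rw [← (linAut_X D₈ h hp).2, img_inv_img, hfix.1]
    · rw [← (linAut_X D₈ h hp').2, img_inv_img, hfix.2]
  -- every opposite pair is the image of a standard one
  have move : ∀ {n : ℕ} (s : Fin n → Fin 4 ⊕ Fin 4), Function.Injective s → ∀ (v : Fin n → Fin 4 ⊕ Fin 4 → F),
      LinearIndependent F v → (∀ i, Q₈ (v i) = 0) →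
      (∀ i j, i ≠ j → polar Q₈ (v i) (v j) = if s j = (s i).swap then 1 else 0) →
      ∃ h : simGrp Q₈, ∀ i, simMat h *ᵥ bv (s i) = v i := by
    intro n s hs v hv hq hpol
    obtain ⟨r, hr⟩ := exists_iso_tuple (qPlus_nondeg 4) (fun i => bv (s i)) v (li_bv s hs) hv
      (fun i => by rw [hq, q_bv]) fun i j => by
        by_cases hij : i = j
        · subst hij
          rw [polar_self', polar_self', hq, q_bv]
        · rw [hpol i j hij, polar_bv]
    refine ⟨Subgroup.inclusion (isometry_le_sim Q₈) ((oEquiv Q₈).symm r), fun i => ?_⟩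
    rw [← hr i]
    show (((oEquiv Q₈).symm r : GL (Fin 4 ⊕ Fin 4) F) : Matrix (Fin 4 ⊕ Fin 4) (Fin 4 ⊕ Fin 4) F) *ᵥ _ = _
    rw [← oEquiv_apply, MulEquiv.apply_symm_apply]
  intro A B hAB
  rcases opp_cases D₈ hAB with ⟨w, a, b, hwa, hwb, hab, rfl, rfl⟩ |
    ⟨u, v, x, y, huv, hxy, hli, ⟨hxu, hxv, hyu, hyv⟩, rfl, rfl⟩
  · have hba : polar Q₈ b a = 1 := by rw [QuadraticMap.polar_comm]; exact hab
    have hli : LinearIndependent F ![w, a, b] := by
      rw [Fintype.linearIndependent_iff]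
      intro c hc
      simp only [Fin.sum_univ_three, Matrix.cons_val_zero, Matrix.cons_val_one, Matrix.cons_val] at hc
      have h1 := congrArg (fun z => polar Q₈ z b) hc
      have h2 := congrArg (fun z => polar Q₈ z a) hc
      simp only [polar_add_left', polar_smul_left', QuadraticMap.polar_zero_left, hwb.uv, hwa.uv,
        polar_self', hwa.qv, hwb.qv, hab, hba, mul_zero, mul_one, zero_add, add_zero] at h1 h2
      rw [h1, h2, zero_smul, zero_smul, add_zero, add_zero] at hc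
      intro i
      fin_cases i
      exacts [(smul_eq_zero.1 hc).resolve_right hwa.ne_zero_left, h1, h2]
    obtain ⟨h, hh⟩ := move ![Sum.inl 0, Sum.inl 1, Sum.inr 1] (by decide) ![w, a, b] hli
      (fun i => by fin_cases i <;> [exact hwa.qu; exact hwa.qv; exact hwb.qv])
      fun i j hij => by
        fin_cases i <;> fin_cases j <;>
          first
          | exact absurd rfl hij
          | simp [hwa.uv, hwb.uv, hwa.swap.uv, hwb.swap.uv, hab, hba]
    obtain rfl : simMat h *ᵥ bv (Sum.inl 0) = w := hh 0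
    obtain rfl : simMat h *ᵥ bv (Sum.inl 1) = a := hh 1
    obtain rfl : simMat h *ᵥ bv (Sum.inr 1) = b := hh 2
    exact std (i := Sum.inl 0) (j := Sum.inl 1) (i' := Sum.inl 0) (j' := Sum.inr 1)
      (by decide) (by decide) (by decide) (by decide) h
  · obtain ⟨h, hh⟩ := move ![Sum.inl 0, Sum.inl 1, Sum.inl 2, Sum.inl 3] (by decide) ![u, v, x, y]
      hli (fun i => by fin_cases i <;> [exact huv.qu; exact huv.qv; exact hxy.qu; exact hxy.qv])
      fun i j hij => by
        fin_cases i <;> fin_cases j <;>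
          first
          | exact absurd rfl hij
          | simp [huv.uv, huv.swap.uv, hxy.uv, hxy.swap.uv, hxu, hxv, hyu, hyv,
              QuadraticMap.polar_comm (⇑Q₈) u x, QuadraticMap.polar_comm (⇑Q₈) v x,
              QuadraticMap.polar_comm (⇑Q₈) u y, QuadraticMap.polar_comm (⇑Q₈) v y]
    obtain rfl : simMat h *ᵥ bv (Sum.inl 0) = u := hh 0
    obtain rfl : simMat h *ᵥ bv (Sum.inl 1) = v := hh 1
    obtain rfl : simMat h *ᵥ bv (Sum.inl 2) = x := hh 2
    obtain rfl : simMat h *ᵥ bv (Sum.inl 3) = y := hh 3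
    exact std (i := Sum.inl 0) (j := Sum.inl 1) (i' := Sum.inl 2) (j' := Sum.inl 3)
      (by decide) (by decide) (by decide) (by decide) h

theorem opp_solid : Opp D₈
    (X D₈ (bv (F := F) (Sum.inl 0)) (bv (Sum.inl 1)))
    (X D₈ (bv (Sum.inl 2)) (bv (Sum.inl 3))) := by
  have h01 := pair_bv (F := F) (i := Sum.inl 0) (j := Sum.inl 1) (by decide) (by decide)
  have h23 := pair_bv (F := F) (i := Sum.inl 2) (j := Sum.inl 3) (by decide) (by decide)
  have ha : Apart (F := F) (bv (F := F) (Sum.inl 0)) (bv (Sum.inl 1)) (bv (Sum.inl 2)) (bv (Sum.inl 3)) := by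
    intro z hz hz'
    obtain ⟨a, b, rfl⟩ := mem_line.1 hz
    obtain ⟨a', b', e⟩ := mem_line.1 hz'
    have e0 := congrFun e (Sum.inl 0)
    have e1 := congrFun e (Sum.inl 1)
    simp [bv, Pi.single_apply] at e0 e1
    rw [e0, e1]; simp
  refine ⟨⟨_, _, h01, rfl⟩, ⟨_, _, h23, rfl⟩, fun e => ?_, comm_perp _ h01 h23 ?_ ?_ ?_ ?_,
    not_adj_apart _ h01 h23 ha⟩
  · exact h01.ne_zero_left (ha _ (left_mem_line _ _)
      (line_of_X_eq _ h01 h23 e ▸ left_mem_line _ _))
  all_goals rw [polar_bv]; simp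

/-- A conjugate of a generator is again inner-diagonal. -/
theorem conj_gen_mem [Finite (POm (qPlus 4 F))] (α : MulAut (POm (qPlus 4 F)))
    (d : simGrp (qPlus 4 F)) (hd : d ∈ (sgnHom (evenForm_qPlus hodd (le_refl 4))).ker)
    {u v : Fin 4 ⊕ Fin 4 → F} (huv : Pair (qPlus 4 F) u v) {a b : F}
    (hu : simMat d *ᵥ u = a • u) (hv : simMat d *ᵥ v = b • v) (hab : a * b = (simMult d : F)) :
    ∃ g ∈ (sgnHom (evenForm_qPlus hodd (le_refl 4))).ker,
      linAut (qPlus 4 F) g = α * linAut (qPlus 4 F) d * α⁻¹ := by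
  classical
  haveI := inn_normal (POm Q₈)
  set δ := linAut Q₈ d with hδ
  set β := α * δ * α⁻¹ with hβ
  have hag : Agree D₈ (Cfsg.Inn (POm Q₈)) β := agree_conj D₈ (agree_sim hodd d hd) α
  have hag' : Agree D₈ (Cfsg.Inn (POm Q₈)) β⁻¹ := by
    rw [hβ, conj_inv, hδ, ← map_inv]
    exact agree_conj D₈ (agree_sim hodd d⁻¹ (inv_mem hd)) α
  obtain ⟨S, hS⟩ := exists_semi_of_agree D₈ hag hag'
  -- linear, since it fixes a root group pointwise
  have hδfix : ∀ s : F, δ (El D₈ u (s • v)) = El D₈ u (s • v) := fun s => by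
    rw [hδ, linAut_eq D₈ d, Semi.aut_El _ D₈ huv.qu (by rw [polar_smul_right', huv.uv, mul_zero])]
    show El D₈ ((simMult d : F)⁻¹ • (simMat d *ᵥ u)) (simMat d *ᵥ (s • v)) = _
    rw [Matrix.mulVec_smul, hu, hv, smul_smul,
      El_scale D₈ huv.qu (by rw [polar_smul_right', polar_smul_right', huv.uv, mul_zero, mul_zero]),
      smul_smul, smul_smul, ← hab]
    congr 2
    have h0 : a * b ≠ 0 := hab ▸ (simMult d).ne_zero
    have ha0 : a ≠ 0 := left_ne_zero_of_mul h0
    have hb0 : b ≠ 0 := right_ne_zero_of_mul h0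
    field_simp
  obtain ⟨x, y, hxy, exy⟩ := X_image D₈ α huv
  have hfix : ∀ s : F, S.aut (El D₈ x (s • y)) = El D₈ x (s • y) := fun s => by
    obtain ⟨_, ⟨r, rfl⟩, hr⟩ : El D₈ x (s • y) ∈ α '' X D₈ u v := by
      rw [show α '' X D₈ u v = X D₈ x y from exy]; exact ⟨s, rfl⟩
    rw [← hS, ← hr, hβ, MulAut.mul_apply, MulAut.mul_apply, show α⁻¹ (α (El D₈ u (r • v))) = El D₈ u (r • v)
      from α.symm_apply_apply _, hδfix]
  have hθ : S.θ = RingEquiv.refl F := RingEquiv.ext fun s => theta_eq_of_fix D₈ S hxy hfix s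
  obtain ⟨g, hg, c, hc⟩ := exists_matrix S
  have hgs : g ∈ simGrp Q₈ := ⟨c, fun v => by
    have := hc v
    rw [hθ] at this
    exact this⟩
  set β₀ : MulAut (Cfsg.POmega F (⇑Q₈)) := (MulAut.congr (pOmegaEquiv Q₈)).symm β with hβ₀
  have hi := induced_of_semi D₈ S β₀ (fun z => by
    show pOmegaEquiv Q₈ ((pOmegaEquiv Q₈).symm (β (pOmegaEquiv Q₈ z))) = _
    rw [MulEquiv.apply_symm_apply, hS]) g hg
  rw [hθ] at hi
  have hlin : linAut Q₈ ⟨g, hgs⟩ = β := by
    show MulAut.congr (pOmegaEquiv Q₈) (conjAut Q₈ ⟨g, hgs⟩) = β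
    rw [← (induced_iff ⟨g, hgs⟩ β₀).1 hi, hβ₀, MulEquiv.apply_symm_apply]
  refine ⟨⟨g, hgs⟩, ?_, hlin⟩
  -- it keeps the families of solids
  obtain ⟨d₀, t₀, hd0, hds0, -, -, hdl, -, -, -⟩ := exists_gens hodd
  obtain ⟨ω, hω, eA, eB⟩ := hag _ _ (opp_solid hodd)
  obtain ⟨i, hi', rfl⟩ := exists_innS_of_inn hω
  set T : Submodule F (Fin 4 ⊕ Fin 4 → F) :=
    Submodule.span F (Set.range fun j : Fin 4 => bv (Sum.inl j)) with hT
  have hTr : Module.finrank F T = 4 := by
    rw [hT, finrank_span_eq_card (li_bv _ Sum.inl_injective), Fintype.card_fin]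
  have hTs : IsSing Q₈ 4 T := ⟨hTr, fun z hz => by
    obtain ⟨c, rfl⟩ := (Submodule.mem_span_range_iff_exists_fun F).1 hz
    simp [coe_qPlus, Cfsg.quadFormPlus, bv, Finset.sum_apply, Pi.single_apply]⟩
  have hTle : ∀ h : simGrp Q₈, (∀ j, simMat h *ᵥ bv (Sum.inl j) ∈ T) →
      Cfsg.imageSubmodule (simMat h) T = T := by
    intro h hh
    refine Submodule.eq_of_le_of_finrank_le ?_ (by rw [finrank_image])
    rw [imageSubmodule_eq, Submodule.map_le_iff_le_comap, hT, Submodule.span_le]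
    rintro _ ⟨j, rfl⟩
    exact hh j
  set k := i⁻¹ * (⟨g, hgs⟩ : simGrp Q₈) with hk
  have hkX : ∀ {A : Set (POm Q₈)}, img β A = img (linAut Q₈ i) A → img (linAut Q₈ k) A = A := by
    intro A e
    rw [hk, map_mul, map_inv, img_mul D₈, hlin, e, img_inv_img]
  have h01 := pair_bv (F := F) (i := Sum.inl 0) (j := Sum.inl 1) (by decide) (by decide)
  have h23 := pair_bv (F := F) (i := Sum.inl 2) (j := Sum.inl 3) (by decide) (by decide)
  obtain ⟨hp1, e1⟩ := linAut_X D₈ k h01
  obtain ⟨hp2, e2⟩ := linAut_X D₈ k h23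
  have l1 := line_of_X_eq D₈ hp1 h01 (e1.symm.trans (hkX eA))
  have l2 := line_of_X_eq D₈ hp2 h23 (e2.symm.trans (hkX eB))
  have hmem : ∀ j : Fin 4, bv (F := F) (Sum.inl j) ∈ T := fun j => Submodule.subset_span ⟨j, rfl⟩
  have hkT : Cfsg.imageSubmodule (simMat k) T = T := hTle k fun j => by
    have hle : ∀ {i j : Fin 4} {z}, z ∈ line F (bv (F := F) (Sum.inl i)) (bv (Sum.inl j)) → z ∈ T := by
      intro i j z hz
      obtain ⟨a, b, rfl⟩ := mem_line.1 hz
      exact add_mem (Submodule.smul_mem _ a (hmem i)) (Submodule.smul_mem _ b (hmem j))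
    fin_cases j
    · exact hle (l1 ▸ left_mem_line (F := F) _ _)
    · exact hle (l1 ▸ right_mem_line (F := F) _ _)
    · exact hle (l2 ▸ left_mem_line (F := F) _ _)
    · exact hle (l2 ▸ right_mem_line (F := F) _ _)
  have hdT : Cfsg.imageSubmodule (simMat d₀) T = T := hTle d₀ fun j => by rw [hdl]; exact hmem j
  have hk1 : sgnHom H₈ k = 1 := by
    rw [← preserves_iff_of_delta H₈ hTs d₀ hd0 hds0 hdT, preserves_iff_parityBit H₈ hTs]
    exact parityBit_of_image_eq H₈ hTs k hkT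
  have hii : sgnHom H₈ i = 1 := innS_le_ker H₈ hi'
  rw [hk, map_mul, map_inv, hii, inv_one, one_mul] at hk1
  exact hk1

theorem inndiag_eight_normal : (Cfsg.inndiagPOmegaPlus 4 F).Normal := by
  classical
  have : Finite (OQ Q₈) := Finite.of_equiv _ (oEquiv Q₈).toEquiv
  have : Finite (POm Q₈) := Quotient.finite _
  haveI := inn_normal (POm Q₈)
  obtain ⟨d, t, hd, hds, ht, hts, hdl, hdr, hte, htf⟩ := exists_gens hodd
  have key : ∀ (α : MulAut (POm Q₈)) (g : simGrp Q₈), g ∈ (sgnHom H₈).ker →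
      α * linAut Q₈ g * α⁻¹ ∈ (sgnHom H₈).ker.map (linAut Q₈) := by
    intro α
    suffices (sgnHom H₈).ker ≤ ((sgnHom H₈).ker.map (linAut Q₈)).comap
        ((MulAut.conj α).toMonoidHom.comp (linAut Q₈)) from fun g hg => this hg
    refine (ker_le_sup H₈ d hd hds t ht hts).trans (sup_le ?_ ?_)
    · intro i hi
      obtain ⟨j, hj, e⟩ := exists_innS_of_inn
        (Subgroup.Normal.conj_mem inferInstance _ (linAut_mem_inn hi) α)
      exact ⟨j, innS_le_ker H₈ hj, e⟩
    · rw [Subgroup.closure_le]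
      rintro x (rfl | rfl)
      · exact conj_gen_mem hodd α x hds (pair_bv (i := Sum.inl 0) (j := Sum.inr 1) (by decide) (by decide))
          (a := 1) (by rw [hdl, one_smul]) (hdr 1) (one_mul _)
      · refine conj_gen_mem hodd α _ ?_ (pair_bv (i := Sum.inl 1) (j := Sum.inl 2) (by decide) (by decide))
          (a := 1) (b := 1) (by rw [htf _ (by decide) (by decide), one_smul])
          (by rw [htf _ (by decide) (by decide), one_smul]) ?_
        · rw [MonoidHom.mem_ker, sgn_incl H₈, ht]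
        · rw [mult_incl H₈, Units.val_one, one_mul]
  have trans' : ∀ {f : (Fin 4 ⊕ Fin 4 → F) → F} (_ : f = ⇑Q₈) (S : Subgroup (MulAut (Cfsg.POmega F f))),
      HEq S ((sgnHom H₈).ker.map (conjAut Q₈)) → S.Normal := by
    intro f hf S hS
    subst hf
    obtain rfl := eq_of_heq hS
    refine ⟨?_⟩
    rintro _ ⟨g, hg, rfl⟩ α₀
    obtain ⟨g', hg', e⟩ := key (MulAut.congr (pOmegaEquiv Q₈) α₀) g hg
    refine ⟨g', hg', (MulAut.congr (pOmegaEquiv Q₈)).injective ?_⟩
    rw [map_mul, map_mul, map_inv]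
    exact e
  exact trans' (coe_qPlus 4 F).symm _ (by rw [inndiagPlus_eq hodd (le_refl 4)]; exact cast_heq _ _)

end Eight

end CfsgLib.Known.OrthFieldCent
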